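import Groth.Agent.FibreVanishQC.NearFibre
import Groth.Agent.DCohLib.SigmaSections
import Groth.Agent.ProjBundleLib.EpiClosed
import Mathlib

/-! Cohomology of globally generated modules on a proper scheme with small fibres, and surjectivity of the
structure map of the direct image after base change. -/

set_option autoImplicit false
set_option backward.isDefEq.respectTransparency false
set_option linter.style.haveILetI false
set_option maxHeartbeats 1000000

universe u

open CategoryTheory CategoryTheory.Limits AlgebraicGeometry Opposite TopologicalSpace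
open Groth.Agent.CohBase

noncomputable section

namespace Groth.Agent.FibreVanishQC

/-- The sections of a base change over the preimage of an affine open. -/
theorem isPushout_app {X S X' S' : Scheme.{u}} [IsAffine S] [IsAffine S'] {f : X ⟶ S} {g : S' ⟶ S} {f' : X' ⟶ S'}
    {g' : X' ⟶ X} (sq : IsPullback g' f' f g) {V : X.Opens} (hV : IsAffineOpen V) :
    IsPushout (f.appTop ≫ X.presheaf.map (homOfLE (le_top : V ≤ ⊤)).op) g.appTop (g'.app V)
      (f'.appTop ≫ X'.presheaf.map (homOfLE (le_top : g' ⁻¹ᵁ V ≤ ⊤)).op) := by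
  haveI : IsAffine V.toScheme := hV
  refine (isPushout_appTop_of_isPullback ((isPullback_morphismRestrict g' V).paste_vert sq)).of_iso
    (Iso.refl _) V.topIso (Iso.refl _) (g' ⁻¹ᵁ V).topIso ?_ ?_ ?_ ?_
  · simp [Scheme.Hom.comp_appTop, Scheme.Opens.topIso_hom, Scheme.Opens.ι_appTop, ← Functor.map_comp]
  · simp
  · simp [morphismRestrict_appTop, Scheme.Opens.topIso_hom, Scheme.Hom.app_eq_appLE]
  · simp [Scheme.Hom.comp_appTop, Scheme.Opens.topIso_hom, Scheme.Opens.ι_appTop, ← Functor.map_comp]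
open scoped TensorProduct in
/-- The relations of a pushout of rings come from those of the base. -/
theorem mem_span_relations {A B A' B' : CommRingCat.{u}} {φ : A ⟶ B} {γ : A ⟶ A'} {inl : B ⟶ B'} {inr : A' ⟶ B'}
    (h : IsPushout φ γ inl inr) (t : A' →₀ B) (ht : (t.sum fun a b => inl b * inr a) = 0) :
    t ∈ Submodule.span B (Finsupp.mapRange φ (map_zero φ.hom) '' {r : A' →₀ A | (r.sum fun a x => γ x * a) = 0}) := by
  classical
  algebraize [φ.hom, γ.hom]
  let Sp : Submodule B (A' →₀ B) :=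
    Submodule.span B (Finsupp.mapRange φ (map_zero φ.hom) '' {r : A' →₀ A | (r.sum fun a x => γ x * a) = 0})
  let i₁ : B ⟶ CommRingCat.of (A' ⊗[A] B) := CommRingCat.ofHom (Algebra.TensorProduct.includeRight (R := A) (A := A') (B := B)).toRingHom
  let i₂ : A' ⟶ CommRingCat.of (A' ⊗[A] B) := CommRingCat.ofHom Algebra.TensorProduct.includeLeftRingHom
  have hi : φ ≫ i₁ = γ ≫ i₂ := CommRingCat.hom_ext (RingHom.ext fun x => by
    show (1 : A') ⊗ₜ[A] (algebraMap A B x) = (algebraMap A A' x) ⊗ₜ[A] (1 : B)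
    rw [Algebra.algebraMap_eq_smul_one, Algebra.algebraMap_eq_smul_one, TensorProduct.smul_tmul])
  have h0 : (t.sum fun a b => (a : A') ⊗ₜ[A] b) = 0 := by
    have := congrArg (h.desc i₁ i₂ hi) ht
    rw [map_zero, map_finsuppSum] at this
    refine Eq.trans (Finsupp.sum_congr fun a _ => ?_) this
    rw [map_mul, show h.desc i₁ i₂ hi (inl (t a)) = i₁ (t a) from congrArg (fun k => k (t a)) (h.inl_desc i₁ i₂ hi),
      show h.desc i₁ i₂ hi (inr a) = i₂ a from congrArg (fun k => k a) (h.inr_desc i₁ i₂ hi)]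
    exact ((Algebra.TensorProduct.tmul_mul_tmul (1 : A') a (t a) (1 : B)).trans (by rw [one_mul, mul_one])).symm
  let β : A' →ₗ[A] B →ₗ[A] (A' →₀ B) ⧸ Sp := LinearMap.mk₂ A (fun a b => Submodule.Quotient.mk (Finsupp.single a b))
    (fun a a' b => by
      rw [← Submodule.Quotient.mk_add, Submodule.Quotient.eq]
      have hr : Finsupp.mapRange φ (map_zero φ.hom)
          (Finsupp.single (a + a') 1 - Finsupp.single a 1 - Finsupp.single a' 1) ∈ Sp :=
        Submodule.subset_span ⟨_, by simp [Finsupp.sum_sub_index, sub_mul], rfl⟩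
      convert Sp.smul_mem b hr using 1
      simp [Finsupp.mapRange_sub (map_sub φ.hom), Finsupp.mapRange_add (map_add φ.hom), smul_sub, smul_add, sub_sub])
    (fun x a b => by
      rw [← Submodule.Quotient.mk_smul, Submodule.Quotient.eq, Finsupp.smul_single]
      have hr : Finsupp.mapRange φ (map_zero φ.hom)
          (Finsupp.single (x • a) 1 - Finsupp.single a x) ∈ Sp :=
        Submodule.subset_span ⟨_, by
          simp [Finsupp.sum_sub_index, sub_mul, Algebra.smul_def, RingHom.algebraMap_toAlgebra], rfl⟩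
      convert Sp.smul_mem b hr using 1
      simp [Finsupp.mapRange_sub (map_sub φ.hom), smul_sub, Algebra.smul_def, RingHom.algebraMap_toAlgebra, mul_comm])
    (fun a b b' => by rw [Finsupp.single_add, Submodule.Quotient.mk_add])
    (fun x a b => by rw [← Submodule.Quotient.mk_smul, Finsupp.smul_single])
  rw [← Submodule.Quotient.mk_eq_zero]
  have h1 := congrArg (TensorProduct.lift β) h0
  rw [map_zero, map_finsuppSum] at h1
  refine Eq.trans ?_ h1
  conv_lhs => rw [← Finsupp.sum_single t]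
  exact map_finsuppSum (Submodule.mkQ Sp) _ _

/-- A section of a coproduct over a compact open is a finite sum. -/
theorem exists_sum_inj {X : Scheme.{u}} {ι : Type u} {F : ι → X.Modules} {c : Cofan F} (hc : IsColimit c)
    (U : X.Opens) (hU : IsCompact (U : Set X)) (s : Γ(c.pt, U)) :
    ∃ T : Finset ι, s = ∑ i ∈ T, (c.inj i).app U ((DCohLib.sigmaProj hc i).app U s) := by
  obtain ⟨T, hT⟩ := DCohLib.exists_trunc_app hc U hU s
  refine ⟨T, hT.symm.trans ?_⟩
  let evHom : (c.pt ⟶ c.pt) →+ Γ(c.pt, U) :=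
    { toFun := fun k => k.app U s
      map_zero' := rfl
      map_add' := fun _ _ => rfl }
  exact map_sum evHom _ T

/-- A map which is surjective on sections over affine opens is an epimorphism. -/
theorem epi_of_surjective_app {X : Scheme.{u}} {M N : X.Modules} (ψ : M ⟶ N)
    (h : ∀ U : X.Opens, IsAffineOpen U → Function.Surjective (ψ.app U)) : Epi ψ := by
  refine Preadditive.epi_of_cancel_zero _ fun {P} q hq => ?_
  refine Scheme.Modules.hom_ext _ _ fun U => ?_
  refine AddCommGrpCat.hom_ext (AddMonoidHom.ext fun s => ?_)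
  show q.app U s = 0
  refine TopCat.Presheaf.section_ext ((QCohLib.toAbF X).obj P) U (q.app U s) 0 fun x hx => ?_
  obtain ⟨_, ⟨W, hW, rfl⟩, hxW, hle⟩ := X.isBasis_affineOpens.exists_subset_of_mem_open hx U.2
  change X.Opens at W
  obtain ⟨m, hm⟩ := h W hW (N.presheaf.map (homOfLE (hle : W ≤ U)).op s)
  have h1 : P.presheaf.map (homOfLE (hle : W ≤ U)).op (q.app U s) = 0 := by
    refine (ConcreteCategory.congr_hom (q.mapPresheaf.naturality (homOfLE (hle : W ≤ U)).op) s).symm.trans ?_
    refine (congrArg (q.app W) hm).symm.trans ?_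
    exact congrArg (fun k : M ⟶ P => k.app W m) hq
  show P.presheaf.germ U x hx (q.app U s) = P.presheaf.germ U x hx 0
  refine (P.presheaf.germ_res_apply (homOfLE (hle : W ≤ U)) x hxW (q.app U s)).symm.trans ?_
  exact ((congrArg (P.presheaf.germ W x hxW) h1).trans (map_zero _)).trans (map_zero _).symm

/-- Vanishing in the top degree from that on the fibres. -/
theorem subsingleton_HH_of_fibres {X Y : Scheme.{u}} (f : X ⟶ Y) [IsProper f] [IsAffine Y] (d : ℕ)
    (hd : ∀ y, topologicalKrullDim ↥(f.fiber y) ≤ (d + 1 : ℕ))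
    (h : ∀ y, Subsingleton (Coh.HH (f.fiber y) (Coh.structureModule (f.fiber y)) (d + 1))) :
    Subsingleton (Coh.HH X (Coh.structureModule X) (d + 1)) := by
  haveI : HasInjectiveResolutions X.Modules := inferInstance
  haveI : Coh.IsQCoh (Coh.structureModule X) := inferInstance
  haveI : Subsingleton Γ((Coh.Rpush f (d + 1)).obj (Coh.structureModule X), (⊤ : Y.Opens)) := by
    refine subsingleton_sections _ _ fun y _ => ?_
    haveI := subsingleton_stalk_rpush f (d + 1) y (hd y) (h y)
    exact AddCommGrpCat.isZero_of_subsingleton _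
  obtain ⟨e⟩ := RpushLib.nonempty_sections f (M := Coh.structureModule X) d (isAffineOpen_top Y)
  have h0 := e.symm.toEquiv.subsingleton
  rw [Scheme.Hom.preimage_top] at h0
  haveI := h0
  exact (HHEquiv (Coh.structureModule X) (d + 1)).toEquiv.subsingleton

/-- Quotients of sums of copies of the structure sheaf. -/
theorem subsingleton_HU_of_globgen {X Y : Scheme.{u}} (f : X ⟶ Y) [IsProper f] [IsAffine Y] (d : ℕ)
    (hd : ∀ y, topologicalKrullDim ↥(f.fiber y) ≤ (d + 1 : ℕ))
    (h : Subsingleton (Coh.HH X (Coh.structureModule X) (d + 1))) (F : X.Modules) [Coh.IsQCoh F] {A : Type u}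
    (m : A → (Coh.structureModule X ⟶ F))
    (hgen : ∀ U : X.Opens, IsAffineOpen U → ∀ n : Γ(F, U), ∃ t : A →₀ Γ(Coh.structureModule X, U),
      t.sum (fun a b => (m a).app U b) = n) :
    Subsingleton (HU (⊤ : X.Opens) (Coh.toAb F) (d + 1)) := by
  haveI : CompactSpace X := QuasiCompact.compactSpace_of_compactSpace f
  haveI : X.IsSeparated := ⟨by
    rw [← terminal.comp_from f]
    infer_instance⟩
  haveI : Coh.IsQCoh (Coh.structureModule X) := inferInstance
  haveI : Subsingleton (HU (⊤ : X.Opens) (Coh.toAb (Coh.structureModule X)) (d + 1)) :=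
    (HHEquiv (Coh.structureModule X) (d + 1)).symm.toEquiv.subsingleton
  let 𝒰 := X.affineCover.finiteSubcover
  let U : 𝒰.I₀ → X.Opens := fun a => (𝒰.f a).opensRange
  have hU : ∀ a, IsAffineOpen (U a) := fun a => isAffineOpen_opensRange (𝒰.f a)
  have hcov : (⊤ : X.Opens) ≤ iSup U := le_of_eq 𝒰.iSup_opensRange.symm
  refine subsingleton_of_forall_eq 0 fun x => ?_
  obtain ⟨T, y, hy⟩ := exists_sum_hmap U hU hcov (d + 1)
    (fun K hK => by haveI := hK; exact subsingleton_HU_affine f (d + 1) hd K (d + 1) le_rfl)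
    (Coh.structureModule X) F m (fun i => hgen _ (isAffineOpen_iInf_fin _ fun a => hU (i a))) x
  rw [hy]
  exact Finset.sum_eq_zero fun a _ => by rw [Subsingleton.elim (y a) 0, map_zero]

/-- The sections of the structure sheaf of a proper scheme with small fibres surject after affine base
change if they do before. -/
theorem surjective_appTop_baseChange {X S X' S' : Scheme.{u}} {f : X ⟶ S} [IsProper f] [IsAffine S] [IsAffine S']
    {g : S' ⟶ S} {f' : X' ⟶ S'} {g' : X' ⟶ X} (sq : IsPullback g' f' f g)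
    (hd : ∀ y, topologicalKrullDim ↥(f.fiber y) ≤ (1 : ℕ))
    (h : Subsingleton (Coh.HH X (Coh.structureModule X) 1)) (hs : Function.Surjective f.appTop) :
    Function.Surjective f'.appTop := by
  classical
  haveI : CompactSpace X := QuasiCompact.compactSpace_of_compactSpace f
  haveI : IsAffineHom g := isAffineHom_of_isAffine _
  haveI : IsAffineHom g' := MorphismProperty.of_isPullback sq.flip ‹_›
  haveI : Coh.IsQCoh (Coh.structureModule X) := inferInstance
  haveI : Coh.IsQCoh (Coh.structureModule X') := inferInstance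
  let O := Coh.structureModule X
  let N : X.Modules := (Scheme.Modules.pushforward g').obj (Coh.structureModule X')
  haveI : Coh.IsQCoh N := QCohLib.isQCoh_pushforward (Coh.structureModule X') g'
  haveI : IsClosedImmersion (pullback.lift g' f' sq.w) := by
    have e : pullback.lift g' f' sq.w = sq.isoPullback.hom := pullback.hom_ext
      (by rw [pullback.lift_fst, IsPullback.isoPullback_hom_fst])
      (by rw [pullback.lift_snd, IsPullback.isoPullback_hom_snd])
    rw [e]
    infer_instance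
  let m : Γ(S', ⊤) → (O ⟶ N) := fun a =>
    structMap g' ≫ (Scheme.Modules.pushforward g').map (Formal.smulModΓ (Coh.structureModule X') (f'.appTop a))
  have hm : ∀ (a : Γ(S', ⊤)) (V : X.Opens) (b : Γ(X, V)), (m a).app V b =
      (g'.app V b * X'.presheaf.map (homOfLE (le_top : g' ⁻¹ᵁ V ≤ ⊤)).op (f'.appTop a) : Γ(X', g' ⁻¹ᵁ V)) :=
    fun a V b => (structMap_smul_app g' (f'.appTop a) V b).trans
      (mul_comm (X'.presheaf.map (homOfLE (le_top : g' ⁻¹ᵁ V ≤ ⊤)).op (f'.appTop a)) (g'.app V b))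
  let E : X.Modules := ∐ fun _ : Γ(S', ⊤) => O
  haveI hE : Coh.IsQCoh E := DCohLib.isQCoh_sigma_modules _ fun _ => inferInstance
  let c : Cofan fun _ : Γ(S', ⊤) => O := Cofan.mk E (Sigma.ι _)
  have hc : IsColimit c := coproductIsCoproduct _
  let ψ : E ⟶ N := Sigma.desc m
  have hψ : ∀ a (V : X.Opens) (b : Γ(O, V)), ψ.app V ((c.inj a).app V b) = (m a).app V b := fun a V b =>
    congrArg (fun k : O ⟶ N => k.app V b) (Sigma.ι_desc m a)
  have hsurj : ∀ V : X.Opens, IsAffineOpen V → Function.Surjective (ψ.app V) := by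
    intro V hV
    suffices ∀ n : Γ(X', g' ⁻¹ᵁ V), (show Γ(N, V) from n) ∈ (ψ.app V).hom.range from fun n => this n
    intro n
    refine AddSubgroup.closure_induction (p := fun k _ => (show Γ(N, V) from k) ∈ (ψ.app V).hom.range) ?_
      (zero_mem (ψ.app V).hom.range) (fun a b _ _ ha hb => add_mem ha hb) (fun a _ ha => neg_mem ha)
      (mem_closure_preimage f g' f' g sq.w hV n)
    rintro _ ⟨⟨b, a⟩, rfl⟩
    exact ⟨(c.inj a).app V b, (hψ a V b).trans (hm a V b)⟩
  haveI : Epi ψ := epi_of_surjective_app ψ hsurj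
  let S₁ := ShortComplex.mk (kernel.ι ψ) ψ (kernel.condition ψ)
  have hS₁ : S₁.ShortExact := { exact := ShortComplex.exact_kernel ψ }
  haveI hK : Coh.IsQCoh S₁.X₁ := QCohLib.isQCoh_X₁ hS₁ hE ‹_›
  let R := {r : Γ(S', ⊤) →₀ Γ(S, ⊤) // (r.sum fun a x => g.appTop x * a) = 0}
  let ι₀ : R → (O ⟶ E) := fun r =>
    ∑ a ∈ r.1.support, Formal.smulModΓ O (f.appTop (r.1 a)) ≫ c.inj a
  have hι : ∀ (r : R) (V : X.Opens) (b : Γ(X, V)), (ι₀ r).app V b =
      ∑ a ∈ r.1.support, (c.inj a).app V (show Γ(O, V) from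
        X.presheaf.map (homOfLE (le_top : V ≤ ⊤)).op (f.appTop (r.1 a)) * b) := by
    intro r V b
    let evHom : (O ⟶ E) →+ Γ(E, V) :=
      { toFun := fun k => k.app V b
        map_zero' := rfl
        map_add' := fun _ _ => rfl }
    exact map_sum evHom _ _
  have hgf : ∀ x : Γ(S, ⊤), g'.appTop (f.appTop x) = f'.appTop (g.appTop x) := fun x =>
    congrArg (fun k : Γ(S, ⊤) ⟶ Γ(X', ⊤) => k x)
      ((Scheme.Hom.comp_appTop g' f).symm.trans ((congrArg Scheme.Hom.appTop sq.w).trans (Scheme.Hom.comp_appTop f' g)))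
  have hι0 : ∀ r : R, ι₀ r ≫ ψ = 0 := by
    intro r
    refine Scheme.Modules.hom_ext _ _ fun V => ?_
    refine AddCommGrpCat.hom_ext (AddMonoidHom.ext fun b => ?_)
    show ψ.app V ((ι₀ r).app V b) = 0
    rw [hι, map_sum]
    simp only [hψ, hm]
    let ρ : Γ(S', ⊤) →+* Γ(X', g' ⁻¹ᵁ V) :=
      (f'.appTop ≫ X'.presheaf.map (homOfLE (le_top : g' ⁻¹ᵁ V ≤ ⊤)).op).hom
    have h0 : ∑ a ∈ r.1.support, (g'.app V b * ρ (g.appTop (r.1 a) * a) : Γ(X', g' ⁻¹ᵁ V)) = 0 := by
      rw [← Finset.mul_sum, ← map_sum]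
      rw [show ∑ a ∈ r.1.support, g.appTop (r.1 a) * a = 0 from r.2, map_zero, mul_zero]
    refine Eq.trans (Finset.sum_congr rfl fun a _ => ?_) h0
    rw [map_mul, map_mul, show g'.app V (X.presheaf.map (homOfLE (le_top : V ≤ ⊤)).op (f.appTop (r.1 a))) =
      ρ (g.appTop (r.1 a)) from (ConcreteCategory.congr_hom (g'.naturality (homOfLE (le_top : V ≤ ⊤)).op) _).trans
        (congrArg _ (hgf (r.1 a)))]
    rw [mul_assoc, mul_left_comm]
    rfl
  let k : R → (O ⟶ S₁.X₁) := fun r => kernel.lift ψ (ι₀ r) (hι0 r)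
  have hk : ∀ (r : R) (V : X.Opens) (b : Γ(O, V)), (kernel.ι ψ).app V ((k r).app V b) = (ι₀ r).app V b :=
    fun r V b => congrArg (fun q : O ⟶ E => q.app V b) (kernel.lift_ι ψ (ι₀ r) (hι0 r))
  have hgenK : ∀ V : X.Opens, IsAffineOpen V → ∀ n : Γ(S₁.X₁, V), ∃ t : R →₀ Γ(O, V),
      t.sum (fun a b => (k a).app V b) = n := by
    intro V hV n
    obtain ⟨T, hT⟩ := exists_sum_inj hc V hV.isCompact ((kernel.ι ψ).app V n)
    let P : (Γ(S', ⊤) →₀ Γ(X, V)) →+ Γ(E, V) :=
      Finsupp.liftAddHom fun a => ((c.inj a).app V).hom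
    let tc : Γ(S', ⊤) →₀ Γ(X, V) :=
      ∑ a ∈ T, Finsupp.single a (show Γ(X, V) from (DCohLib.sigmaProj hc a).app V ((kernel.ι ψ).app V n))
    have hP : P tc = (kernel.ι ψ).app V n := by
      rw [map_sum]
      refine Eq.trans (Finset.sum_congr rfl fun a _ => ?_) hT.symm
      exact Finsupp.liftAddHom_apply_single _ _ _
    have htc : (tc.sum fun a b => g'.app V b *
        (f'.appTop ≫ X'.presheaf.map (homOfLE (le_top : g' ⁻¹ᵁ V ≤ ⊤)).op) a) = 0 := by
      have h0 : ψ.app V (P tc) = 0 := by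
        rw [hP]
        exact congrArg (fun q : S₁.X₁ ⟶ N => q.app V n) (kernel.condition ψ)
      rw [Finsupp.liftAddHom_apply, map_finsuppSum] at h0
      exact (Finsupp.sum_congr fun a _ => ((hψ a V (tc a)).trans (hm a V (tc a))).symm).trans h0
    have hmem := mem_span_relations (isPushout_app sq hV) tc htc
    let L : (R →₀ Γ(O, V)) →+ Γ(S₁.X₁, V) := Finsupp.liftAddHom fun r => ((k r).app V).hom
    suffices hh : ∀ s ∈ Submodule.span Γ(X, V) (Finsupp.mapRange
        (f.appTop ≫ X.presheaf.map (homOfLE (le_top : V ≤ ⊤)).op) (map_zero _) ''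
          {r : Γ(S', ⊤) →₀ Γ(S, ⊤) | (r.sum fun a x => g.appTop x * a) = 0}),
        ∀ v : Γ(X, V), ∃ t, (kernel.ι ψ).app V (L t) = P (v • s) by
      obtain ⟨t, ht⟩ := hh tc hmem 1
      rw [one_smul, hP] at ht
      refine ⟨t, sections_injective ((QCohLib.toAbF X).map (kernel.ι ψ)) V ?_⟩
      exact ht
    intro s hs'
    induction hs' using Submodule.span_induction with
    | mem z hz =>
      obtain ⟨r, hr, rfl⟩ := hz
      intro v
      refine ⟨Finsupp.single ⟨r, hr⟩ v, ?_⟩
      rw [show L (Finsupp.single ⟨r, hr⟩ v) = (k ⟨r, hr⟩).app V v from Finsupp.liftAddHom_apply_single _ _ _,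
        hk, hι, Finsupp.liftAddHom_apply,
        Finsupp.sum_of_support_subset _ (Finsupp.support_smul.trans Finsupp.support_mapRange) _
          fun a _ => map_zero _]
      refine Finset.sum_congr rfl fun a _ => ?_
      refine congrArg ((c.inj a).app V) ?_
      rw [Finsupp.smul_apply, Finsupp.mapRange_apply, smul_eq_mul, mul_comm]
      rfl
    | zero => intro v; exact ⟨0, by rw [smul_zero, map_zero, map_zero, map_zero]⟩
    | add p q _ _ hp hq =>
      intro v
      obtain ⟨t₁, h₁⟩ := hp v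
      obtain ⟨t₂, h₂⟩ := hq v
      exact ⟨t₁ + t₂, by rw [map_add, map_add, h₁, h₂, smul_add, map_add]⟩
    | smul b p _ hp => intro v; rw [smul_smul]; exact hp _
  have hH := subsingleton_HU_of_globgen f 0 hd h S₁.X₁ k hgenK
  haveI : Subsingleton (HU (⊤ : X.Opens) (S₁.map (QCohLib.toAbF X)).X₁ 1) := hH
  intro s
  obtain ⟨e, he⟩ := sections_surjective (QCohLib.toAb_shortExact hS₁) ⊤
    (show Γ(N, ⊤) from s)
  obtain ⟨T, hT⟩ := exists_sum_inj hc ⊤ isCompact_univ e
  choose x hx using fun a : Γ(S', ⊤) => hs (show Γ(X, ⊤) from (DCohLib.sigmaProj hc a).app ⊤ e)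
  refine ⟨∑ a ∈ T, g.appTop (x a) * a, ?_⟩
  refine Eq.trans ?_ he
  show f'.appTop (∑ a ∈ T, g.appTop (x a) * a) = ψ.app ⊤ e
  rw [hT, map_sum, map_sum]
  refine Finset.sum_congr rfl fun a _ => ?_
  rw [hψ, hm, map_mul, ← hgf, hx]
  exact congrArg (g'.appTop _ * ·) (ConcreteCategory.congr_hom (X'.presheaf.map_id (op ⊤)) _).symm

end Groth.Agent.FibreVanishQC
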