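import Groth.Agent.FibreVanishQC.BaseChange
import Groth.Agent.RpushLib.Stalk
import Mathlib

/-! If the cohomology of the structure sheaf of the closed fibre of a proper scheme over a local ring vanishes
in the degree of a bound for the dimension of the fibres, so does that of the scheme: right exactness and
Nakayama. -/

set_option autoImplicit false
set_option backward.isDefEq.respectTransparency false
set_option linter.style.haveILetI false
set_option maxHeartbeats 1000000

universe u

open CategoryTheory CategoryTheory.Limits AlgebraicGeometry Opposite TopologicalSpace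
open Groth.Agent.CohBase

noncomputable section

namespace Groth.Agent.FibreVanishQC

/-- Right exactness in the top degree, for one cocycle: if its values are spanned by the images of sections
of `G` under a family of maps, its class is so spanned. -/
theorem exists_sum_hmap_cmp {X : Scheme.{u}} [X.IsSeparated] {κ : Type u} [Finite κ] (U : κ → X.Opens)
    (hU : ∀ a, IsAffineOpen (U a)) (hcov : (⊤ : X.Opens) ≤ iSup U) (d : ℕ)
    (hvan : ∀ K : X.Modules, Coh.IsQCoh K → Subsingleton (HU (⊤ : X.Opens) (Coh.toAb K) (d + 1)))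
    {A : Type u} (G N : X.Modules) [Coh.IsQCoh G] [Coh.IsQCoh N] (m : A → (G ⟶ N))
    (hac : Acyclic U (Coh.toAb N)) (c : Zc U (Coh.toAb N).obj d)
    (hgen : ∀ i : Fin (d + 1) → κ, ∃ t : A →₀ Γ(G, inter U i),
      t.sum (fun a g => (m a).app (inter U i) g) = c.1 i) :
    ∃ (F : Finset A) (y : A → HU (⊤ : X.Opens) (Coh.toAb G) d),
      cmp U hcov hac d c = ∑ a ∈ F, hmap (⊤ : X.Opens) ((QCohLib.toAbF X).map (m a)) d (y a) := by
  classical
  haveI : HasFiniteBiproducts X.Modules := Abelian.hasFiniteBiproducts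
  have hint : ∀ (k : ℕ) (i : Fin (k + 1) → κ), IsAffineOpen (inter U i) :=
    fun k i => isAffineOpen_iInf_fin _ fun a => hU (i a)
  choose t ht using hgen
  haveI : Fintype κ := Fintype.ofFinite κ
  let F : Finset A := Finset.univ.biUnion fun i => (t i).support
  let G' : X.Modules := ⨁ fun _ : F => G
  have hG' : Coh.IsQCoh G' := DCohLib.isQCoh_of_iso' (biproduct.isoCoproduct _).symm
    (DCohLib.isQCoh_sigma_modules _ fun _ => inferInstance)
  haveI := hG'
  let ψ : G' ⟶ N := biproduct.desc fun a : F => m a.1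
  let S := ShortComplex.mk (kernel.ι (factorThruImage ψ)) (factorThruImage ψ) (kernel.condition _)
  have hS : S.ShortExact :=
    { exact := ShortComplex.exact_of_f_is_kernel _ (kernelIsKernel (factorThruImage ψ)) }
  have hK : Coh.IsQCoh S.X₁ := DCohLib.isQCoh_of_iso'
    (kernelIsoOfEq (Limits.image.fac ψ).symm ≪≫ kernelCompMono (factorThruImage ψ) (Limits.image.ι ψ))
    (QCohLib.isQCoh_image ψ hG' ‹_›).1
  have hI : Coh.IsQCoh (Limits.image ψ) := QCohLib.isQCoh_X₃ hS hK hG'
  haveI := hI
  let e : (Coh.toAb G').obj ⟶ (Coh.toAb (Limits.image ψ)).obj := ((QCohLib.toAbF X).map (factorThruImage ψ)).hom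
  let j : (Coh.toAb (Limits.image ψ)).obj ⟶ (Coh.toAb N).obj := ((QCohLib.toAbF X).map (Limits.image.ι ψ)).hom
  let c' : CC U (Coh.toAb G').obj d := fun i =>
    ∑ a : F, (biproduct.ι (fun _ : F => G) a).app (inter U i) (t i a.1)
  have hc' : ccMap U j d (ccMap U e d c') = c.1 := by
    funext i
    refine Eq.trans ?_ (ht i)
    show (Limits.image.ι ψ).app _ ((factorThruImage ψ).app _ (c' i)) = _
    rw [show (Limits.image.ι ψ).app (inter U i) ((factorThruImage ψ).app _ (c' i)) = ψ.app _ (c' i) from
      congrArg (fun k : G' ⟶ N => k.app (inter U i) (c' i)) (Limits.image.fac ψ)]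
    rw [map_sum]
    have : ∀ a : F, ψ.app (inter U i) ((biproduct.ι (fun _ : F => G) a).app _ (t i a.1)) =
        (m a.1).app (inter U i) (t i a.1) :=
      fun a => congrArg (fun k : G ⟶ N => k.app (inter U i) (t i a.1)) (biproduct.ι_desc (fun a : F => m a.1) a)
    simp only [this]
    rw [Finset.sum_coe_sort F fun a => (m a).app (inter U i) (t i a), Finsupp.sum_of_support_subset (t i)
      (Finset.subset_biUnion_of_mem (fun i => (t i).support) (Finset.mem_univ i)) _ fun a _ => map_zero _]
  haveI : Mono ((QCohLib.toAbF X).map (Limits.image.ι ψ)) := inferInstance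
  have hinj : Function.Injective (ccMap U j (d + 1)) := fun a b hab =>
    funext fun i => sections_injective ((QCohLib.toAbF X).map (Limits.image.ι ψ)) _ (congrFun hab i)
  have hz : cdiff U (Coh.toAb (Limits.image ψ)).obj d (ccMap U e d c') = 0 :=
    hinj (by rw [← cdiff_ccMap, hc', map_zero]; exact c.2)
  let z : Zc U (Coh.toAb (Limits.image ψ)).obj d := ⟨_, hz⟩
  have hS' := QCohLib.toAb_shortExact hS
  haveI : Subsingleton (HU (⊤ : X.Opens) (S.map (QCohLib.toAbF X)).X₁ (d + 1)) := hvan _ hK
  obtain ⟨w, hw⟩ := (hδ_eq_zero_iff hS' ⊤ d (cmp U hcov (acyclic_of_affine _ U hint) d z)).1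
    (Subsingleton.elim _ _)
  refine ⟨F, fun a => if h : a ∈ F then
    hmap ⊤ ((QCohLib.toAbF X).map (biproduct.π (fun _ : F => G) ⟨a, h⟩)) d w else 0, ?_⟩
  rw [cmp_natural U hcov (acyclic_of_affine _ U hint) (acyclic_of_affine N U hint)
    ((QCohLib.toAbF X).map (Limits.image.ι ψ)) z c hc'.symm, ← hw]
  rw [← Finset.sum_coe_sort F]
  simp only [Finset.coe_mem, dite_true, hmap_hmap, ← Functor.map_comp]
  refine (hmap_hmap _ _ _ _).trans ?_
  show hmap ⊤ ((QCohLib.toAbF X).map (factorThruImage ψ) ≫ (QCohLib.toAbF X).map (Limits.image.ι ψ)) d w = _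
  rw [← Functor.map_comp, Limits.image.fac]
  have h1 : ψ = ∑ a : F, biproduct.π (fun _ : F => G) a ≫ m a.1 := by
    refine biproduct.hom_ext' _ _ fun b => ?_
    rw [biproduct.ι_desc, Preadditive.comp_sum, Finset.sum_eq_single b
      (fun c _ hc => by rw [biproduct.ι_π_ne_assoc _ (Ne.symm hc), zero_comp])
      (fun h => absurd (Finset.mem_univ b) h), biproduct.ι_π_self_assoc]
  show hmapHom d w ψ = _
  rw [h1, map_sum]
  rfl

/-- A closed immersion is surjective on sections over affine opens. -/
theorem surjective_app {X Y : Scheme.{u}} (L : X ⟶ Y) [IsClosedImmersion L] {W : Y.Opens} (hW : IsAffineOpen W) :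
    Function.Surjective (L.app W) := by
  have key : ∀ U : Y.Opens, IsAffineOpen U → Function.Surjective (L.app (U.ι ''ᵁ ⊤)) := fun U hU => by
    haveI : IsAffine U.toScheme := hU
    have h2 := (IsClosedImmersion.isAffine_surjective_of_isAffine (L ∣_ U)).2
    rw [morphismRestrict_appTop] at h2
    intro y
    obtain ⟨z, hz⟩ := h2 (X.presheaf.map (eqToHom (image_morphismRestrict_preimage L U ⊤)).op y)
    exact ⟨z, (ConcreteCategory.bijective_of_isIso (X.presheaf.map (eqToHom (image_morphismRestrict_preimage L U ⊤)).op)).1 hz⟩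
  have hs := key W hW
  rwa [Scheme.Opens.ι_image_top] at hs

/-- The sections over an affine open which vanish on the closed subscheme cut out by an ideal of the base
are those in the ideal. -/
theorem ker_app_le {X S X' S' : Scheme.{u}} [IsAffine S] [IsAffine S'] {f : X ⟶ S} {g : S' ⟶ S} {f' : X' ⟶ S'}
    {g' : X' ⟶ X} (sq : IsPullback g' f' f g) (hg : Function.Surjective g.appTop) {V : X.Opens} (hV : IsAffineOpen V)
    (b : Γ(X, V)) (hb : g'.app V b = 0) :
    b ∈ (RingHom.ker g.appTop.hom).map ((X.presheaf.map (homOfLE (le_top : V ≤ ⊤)).op).hom.comp f.appTop.hom) := by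
  haveI : IsAffine V.toScheme := hV
  have hsq := (isPullback_morphismRestrict g' V).paste_vert sq
  have hpo := isPushout_appTop_of_isPullback hsq
  let J := (RingHom.ker g.appTop.hom).map (V.ι ≫ f).appTop.hom
  let e : Γ(S, ⊤) ⧸ RingHom.ker g.appTop.hom ≃+* Γ(S', ⊤) := RingHom.quotientKerEquivOfSurjective hg
  let i₁ : Γ(V.toScheme, ⊤) ⟶ CommRingCat.of (Γ(V.toScheme, ⊤) ⧸ J) := CommRingCat.ofHom (Ideal.Quotient.mk J)
  let i₂ : Γ(S', ⊤) ⟶ CommRingCat.of (Γ(V.toScheme, ⊤) ⧸ J) :=
    CommRingCat.ofHom ((Ideal.quotientMap J (V.ι ≫ f).appTop.hom Ideal.le_comap_map).comp e.symm.toRingHom)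
  have hi : (V.ι ≫ f).appTop ≫ i₁ = g.appTop ≫ i₂ := by
    refine CommRingCat.hom_ext (RingHom.ext fun x => ?_)
    have hx : e.symm (g.appTop x) = Ideal.Quotient.mk _ x := by
      apply e.injective
      rw [e.apply_symm_apply]
      exact (RingHom.quotientKerEquivOfSurjective_apply_mk hg x).symm
    show Ideal.Quotient.mk J ((V.ι ≫ f).appTop x) = Ideal.quotientMap J (V.ι ≫ f).appTop.hom Ideal.le_comap_map (e.symm (g.appTop x))
    rw [hx, Ideal.quotientMap_mk]
  let b' := V.topIso.inv b
  have hb' : (g' ∣_ V).appTop b' = 0 := by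
    apply (g' ⁻¹ᵁ V).topIso.commRingCatIsoToRingEquiv.injective
    rw [map_zero]
    refine Eq.trans ?_ hb
    refine Eq.trans ?_ (congrArg (g'.app V) (congrArg (fun k => k b) V.topIso.inv_hom_id))
    exact congrArg (fun k => k b') (show (g' ∣_ V).appTop ≫ (g' ⁻¹ᵁ V).topIso.hom = V.topIso.hom ≫ g'.app V by
      rw [morphismRestrict_appTop]
      simp [Scheme.Opens.topIso_hom, Scheme.Hom.app_eq_appLE])
  have hmem : b' ∈ J := by
    rw [← Ideal.Quotient.eq_zero_iff_mem]
    have h := congrArg (fun k => k b') (hpo.inl_desc i₁ i₂ hi)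
    refine h.symm.trans ?_
    show hpo.desc i₁ i₂ hi ((g' ∣_ V).appTop b') = 0
    rw [hb', map_zero]
  have h2 : V.topIso.hom b' ∈ J.map V.topIso.hom.hom := Ideal.mem_map_of_mem _ hmem
  rw [Ideal.map_map] at h2
  rw [show V.topIso.hom b' = b from congrArg (fun k => k b) V.topIso.inv_hom_id] at h2
  refine (le_of_eq (congrArg (fun φ => Ideal.map φ (RingHom.ker g.appTop.hom)) ?_)) h2
  have := congrArg CommRingCat.Hom.hom (show (V.ι ≫ f).appTop ≫ V.topIso.hom =
      f.appTop ≫ X.presheaf.map (homOfLE (le_top : V ≤ ⊤)).op by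
    rw [Scheme.Hom.comp_appTop, Scheme.Opens.ι_appTop]
    simp [Scheme.Opens.topIso_hom, ← Functor.map_comp])
  exact this

/-- Over a local ring the cohomology in the degree of the fibre dimension bound vanishes if it does on the
closed fibre. -/
theorem subsingleton_HH_of_closed_fibre {R : Type u} [CommRing R] [IsLocalRing R] {X X' : Scheme.{u}}
    (f : X ⟶ Spec (CommRingCat.of R)) [IsProper f] (d : ℕ) (hd : ∀ s, topologicalKrullDim ↥(f.fiber s) ≤ d)
    {f' : X' ⟶ Spec (CommRingCat.of (IsLocalRing.ResidueField R))} {g' : X' ⟶ X}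
    (sq : IsPullback g' f' f (Spec.map (CommRingCat.ofHom (IsLocalRing.residue R))))
    (h : Subsingleton (Coh.HH X' (Coh.structureModule X') d)) :
    Subsingleton (Coh.HH X (Coh.structureModule X) d) := by
  classical
  let g : Spec (CommRingCat.of (IsLocalRing.ResidueField R)) ⟶ Spec (CommRingCat.of R) :=
    Spec.map (CommRingCat.ofHom (IsLocalRing.residue R))
  haveI : IsClosedImmersion g := IsClosedImmersion.spec_of_surjective _ IsLocalRing.residue_surjective
  haveI : IsClosedImmersion g' := MorphismProperty.of_isPullback sq.flip ‹_›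
  have hgs : Function.Surjective g.appTop := (IsClosedImmersion.isAffine_surjective_of_isAffine g).2
  haveI : CompactSpace X := QuasiCompact.compactSpace_of_compactSpace f
  haveI : X.IsSeparated := ⟨by
    rw [← terminal.comp_from f]
    infer_instance⟩
  haveI : Coh.IsQCoh (Coh.structureModule X) := inferInstance
  haveI : Coh.IsQCoh (Coh.structureModule X') := inferInstance
  let N : X.Modules := (Scheme.Modules.pushforward g').obj (Coh.structureModule X')
  haveI : Coh.IsQCoh N := QCohLib.isQCoh_pushforward (Coh.structureModule X') g'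
  let 𝒰 := X.affineCover.finiteSubcover
  let U : 𝒰.I₀ → X.Opens := fun a => (𝒰.f a).opensRange
  have hU : ∀ a, IsAffineOpen (U a) := fun a => isAffineOpen_opensRange (𝒰.f a)
  have hcov : (⊤ : X.Opens) ≤ iSup U := le_of_eq 𝒰.iSup_opensRange.symm
  have hint : ∀ (k : ℕ) (i : Fin (k + 1) → 𝒰.I₀), IsAffineOpen (inter U i) :=
    fun k i => isAffineOpen_iInf_fin _ fun a => hU (i a)
  have hacO := acyclic_of_affine (Coh.structureModule X) U hint
  have hacN := acyclic_of_affine N U hint
  letI : Module R (Coh.HH X (Coh.structureModule X) d) := Module.compHom _ (Coh.toGlobal f)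
  haveI : Module.Finite R (Coh.HH X (Coh.structureModule X) d) :=
    finite_HH_top f d hd _ (DevLib.isCoh_structureModule X)
  refine ⟨fun a b => ?_⟩
  suffices key : (⊤ : Submodule R (Coh.HH X (Coh.structureModule X) d)) ≤
      IsLocalRing.maximalIdeal R • ⊤ by
    have := Submodule.eq_bot_of_le_smul_of_le_jacobson_bot (IsLocalRing.maximalIdeal R)
      (⊤ : Submodule R (Coh.HH X (Coh.structureModule X) d)) Module.Finite.fg_top key
      (IsLocalRing.maximalIdeal_le_jacobson _)
    have h1 : ∀ x, x = (0 : Coh.HH X (Coh.structureModule X) d) := fun x => by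
      have hx : x ∈ (⊤ : Submodule R (Coh.HH X (Coh.structureModule X) d)) := trivial
      rwa [this, Submodule.mem_bot] at hx
    rw [h1 a, h1 b]
  intro x _
  obtain ⟨c, hc⟩ := cmp_surjective U hcov hacO d (HHEquiv (Coh.structureModule X) d x)
  let j : (Coh.toAb (Coh.structureModule X)).obj ⟶ (Coh.toAb N).obj := ((QCohLib.toAbF X).map (structMap g')).hom
  obtain ⟨E, -⟩ := exists_pushEquiv' g' (Coh.structureModule X') d
  haveI : Subsingleton (HU (⊤ : X.Opens) (Coh.toAb N) d) := E.symm.toEquiv.subsingleton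
  have hB : ccMap U j d c.1 ∈ Bc U (Coh.toAb N).obj d :=
    (cmp_eq_zero_iff U hcov hacN ⟨_, ccMap_mem_Zc U j c⟩).1 (Subsingleton.elim _ _)
  obtain ⟨c₁, hc₁, hc₁'⟩ : ∃ c₁ : Zc U (Coh.toAb (Coh.structureModule X)).obj d,
      cmp U hcov hacO d c₁ = cmp U hcov hacO d c ∧ ccMap U j d c₁.1 = 0 := by
    cases d with
    | zero => exact ⟨c, rfl, hB⟩
    | succ n =>
      obtain ⟨z, hz⟩ := hB
      choose z' hz' using fun i : Fin (n + 1) → 𝒰.I₀ =>
        (show Function.Surjective (g'.app (inter U i)) from surjective_app g' (hint n i)) (z i)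
      have hzz : ccMap U j n z' = z := funext hz'
      refine ⟨c - ⟨cdiff U _ n z', cdiff_cdiff _ _ _⟩, ?_, ?_⟩
      · rw [map_sub, sub_eq_self, cmp_eq_zero_iff]
        exact ⟨z', rfl⟩
      · show ccMap U j (n + 1) (c.1 - cdiff U _ n z') = 0
        rw [map_sub, ← cdiff_ccMap, hzz]
        exact sub_eq_zero.2 hz.symm
  let m : IsLocalRing.maximalIdeal R → (Coh.structureModule X ⟶ Coh.structureModule X) :=
    fun a => Formal.smulModΓ (Coh.structureModule X) (Coh.toGlobal f a.1)
  have hgen : ∀ i : Fin (d + 1) → 𝒰.I₀, ∃ t : IsLocalRing.maximalIdeal R →₀ Γ(Coh.structureModule X, inter U i),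
      t.sum (fun a b => (m a).app (inter U i) b) = c₁.1 i := by
    intro i
    let V := inter U i
    let L : (IsLocalRing.maximalIdeal R →₀ Γ(Coh.structureModule X, V)) →+ Γ(Coh.structureModule X, V) :=
      Finsupp.liftAddHom fun a => ((m a).app V).hom
    suffices ∀ b : Γ(X, V), b ∈ (RingHom.ker g.appTop.hom).map
        ((X.presheaf.map (homOfLE (le_top : V ≤ ⊤)).op).hom.comp f.appTop.hom) →
        (show Γ(Coh.structureModule X, V) from b) ∈ L.range from
      this (c₁.1 i) (ker_app_le sq hgs (hint d i) _ (congrFun hc₁' i))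
    intro b hb
    have key : ∀ (r : Γ(X, V)), ∀ a ∈ RingHom.ker g.appTop.hom,
        (show Γ(Coh.structureModule X, V) from r * X.presheaf.map (homOfLE (le_top : V ≤ ⊤)).op (f.appTop a)) ∈
          L.range := fun r a ha => by
      let a' : R := (Scheme.ΓSpecIso (CommRingCat.of R)).hom a
      have ha' : a' ∈ IsLocalRing.maximalIdeal R := by
        rw [← IsLocalRing.residue_eq_zero_iff]
        have h2 := congrArg (fun k => k a) (Scheme.ΓSpecIso_naturality (CommRingCat.ofHom (IsLocalRing.residue R)))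
        refine h2.symm.trans ?_
        show (Scheme.ΓSpecIso _).hom (g.appTop a) = 0
        rw [show g.appTop a = 0 from ha, map_zero]
      refine ⟨Finsupp.single ⟨a', ha'⟩ r, ?_⟩
      rw [Finsupp.liftAddHom_apply_single]
      show X.presheaf.map (homOfLE (le_top : V ≤ ⊤)).op (Coh.toGlobal f a') * r = _
      rw [show Coh.toGlobal f a' = f.appTop a from congrArg f.appTop
        (congrArg (fun k => k a) (Scheme.ΓSpecIso (CommRingCat.of R)).hom_inv_id), mul_comm]
    suffices ∀ r : Γ(X, V), (show Γ(Coh.structureModule X, V) from r * b) ∈ L.range by simpa using this 1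
    intro r
    induction hb using Submodule.span_induction generalizing r with
    | mem z hz => obtain ⟨a, ha, rfl⟩ := hz; exact key r a ha
    | zero => rw [mul_zero]; exact zero_mem L.range
    | add p q _ _ hp hq => rw [mul_add]; exact add_mem (hp r) (hq r)
    | smul s p _ hp => rw [smul_eq_mul, ← mul_assoc]; exact hp _
  obtain ⟨F, y, hy⟩ := exists_sum_hmap_cmp U hU hcov d
    (fun K hK => by haveI := hK; exact subsingleton_HU_affine f d hd K d le_rfl) _ _ m hacO c₁ hgen
  have hx : x = ∑ a ∈ F, a.1 • (HHEquiv (Coh.structureModule X) d).symm (y a) := by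
    apply (HHEquiv (Coh.structureModule X) d).injective
    rw [map_sum, ← hc, ← hc₁, hy]
    refine Finset.sum_congr rfl fun a _ => ?_
    refine Eq.trans ?_ (HEquiv_map (Coh.smulAb (Coh.structureModule X) (Coh.toGlobal f a.1)) d _).symm
    exact congrArg _ ((HHEquiv (Coh.structureModule X) d).apply_symm_apply (y a)).symm
  rw [hx]
  exact Submodule.sum_mem _ fun a _ => Submodule.smul_mem_smul a.2 trivial

end Groth.Agent.FibreVanishQC
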