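import Groth.Agent.FibreVanishQC.CohUnion
import Groth.Agent.NApproxLib.ProperModel
import Groth.Agent.FPModelLib.Fibre
import Groth.Agent.FPModelLib.ZSys
import Groth.Agent.RpushLib.Sections
import Groth.Agent.RpushLib.Vanish
import Groth.Agent.CurveLib.FibreVanish
import Groth.Agent.ProperFin.PushHH
import Groth.Agent.QCohLib.Push
import Groth.Agent.S0403
import Groth.Agent.S9216
import Groth.Agent.S9777

/-! Higher direct images of quasi-coherent modules vanish above the dimension of the fibres of a proper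
morphism: reduction to a proper morphism over a Noetherian base and to coherent modules. -/

set_option autoImplicit false
set_option backward.isDefEq.respectTransparency false
set_option linter.style.haveILetI false

universe u

open CategoryTheory CategoryTheory.Limits AlgebraicGeometry Opposite TopologicalSpace
open Groth.Agent.CohBase

noncomputable section

namespace Groth.Agent.FibreVanishQC

/-- A module with zero stalks has no nonzero sections. -/
theorem subsingleton_sections {Y : Scheme.{u}} (N : Y.Modules) (W : Y.Opens)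
    (h : ∀ y ∈ W, IsZero (N.presheaf.stalk y)) : Subsingleton Γ(N, W) := by
  refine ⟨fun a b => TopCat.Presheaf.section_ext ((QCohLib.toAbF Y).obj N) W a b fun y hy => ?_⟩
  haveI := AddCommGrpCat.subsingleton_of_isZero (h y hy)
  exact Subsingleton.elim (α := (N.presheaf.stalk y : Type u)) _ _

/-- Over a Noetherian affine base, coherent modules. -/
theorem subsingleton_HU_noetherian {X S : Scheme.{u}} (f : X ⟶ S) [IsProper f] [IsAffine S]
    [IsLocallyNoetherian S] (d : ℕ) (hd : ∀ s, topologicalKrullDim ↥(f.fiber s) ≤ d) (G : X.Modules)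
    (hG : Coh.IsCoh G) (p : ℕ) (hp : d ≤ p) : Subsingleton (HU (⊤ : X.Opens) (Coh.toAb G) (p + 1)) := by
  haveI := hG.1
  haveI : HasInjectiveResolutions X.Modules := inferInstance
  haveI : Subsingleton Γ((Coh.Rpush f (p + 1)).obj G, (⊤ : S.Opens)) := by
    refine subsingleton_sections _ _ fun y _ => ?_
    refine IsZero.of_iso (CurveLib.isZero_stalk_rpush f y d (hd y) G hG (p + 1) (by omega))
      ((TopCat.Presheaf.stalkFunctor AddCommGrpCat.{u} y).mapIso
        ((sheafToPresheaf _ _).mapIso ((RpushLib.toAbRpushIso f (p + 1)).app G)))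
  obtain ⟨e⟩ := RpushLib.nonempty_sections f (M := G) p (isAffineOpen_top S)
  have h := e.symm.toEquiv.subsingleton
  rwa [Scheme.Hom.preimage_top] at h

/-- Over a Noetherian affine base, quasi-coherent modules. -/
theorem subsingleton_HU_noetherian_qc {X S : Scheme.{u}} (f : X ⟶ S) [IsProper f] [IsAffine S]
    [IsLocallyNoetherian S] (d : ℕ) (hd : ∀ s, topologicalKrullDim ↥(f.fiber s) ≤ d) (M : X.Modules)
    [Coh.IsQCoh M] (p : ℕ) (hp : d ≤ p) : Subsingleton (HU (⊤ : X.Opens) (Coh.toAb M) (p + 1)) := by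
  haveI : CompactSpace X := QuasiCompact.compactSpace_of_compactSpace f
  haveI : X.IsSeparated := ⟨by
    rw [← terminal.comp_from f]
    infer_instance⟩
  exact subsingleton_HU_top M p fun G hG => subsingleton_HU_noetherian f d hd G hG p hp

/-- A proper scheme over an affine base maps affinely to one over a Noetherian affine base with fibres
of no larger dimension. -/
theorem exists_noetherian_model {X S : Scheme.{u}} (f : X ⟶ S) [IsProper f] [IsAffine S] (d : ℕ)
    (hd : ∀ s, topologicalKrullDim ↥(f.fiber s) ≤ d) :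
    ∃ (X₀ S₀ : Scheme.{u}) (f₀ : X₀ ⟶ S₀) (h : X ⟶ X₀), IsProper f₀ ∧ IsAffine S₀ ∧ IsLocallyNoetherian S₀ ∧
      IsAffineHom h ∧ ∀ s, topologicalKrullDim ↥(f₀.fiber s) ≤ d := by
  obtain ⟨J, _, _, _, D, c, -, e, -, hobj⟩ := NApproxLib.exists_proper_limit f
  let j₀ : Jᵒᵖ := op (Classical.arbitrary J)
  obtain ⟨hcl, hpr, hlfp⟩ := hobj j₀
  haveI := hcl
  haveI := hpr
  haveI := hlfp
  haveI : IsIso e.inv.left := inferInstanceAs (IsIso ((Over.forget S).map e.inv))
  let j : X ⟶ (D.obj j₀).left := e.inv.left ≫ (c.π.app j₀).left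
  have hj : j ≫ (D.obj j₀).hom = f := by
    rw [Category.assoc]
    erw [Over.w (c.π.app j₀)]
    exact Over.w e.inv
  haveI : IsClosedImmersion j := inferInstance
  obtain ⟨Z, ι, k, hι, hιfp, hk, hZ⟩ := Groth.Agent.S9216.result (D.obj j₀).hom d j (fun s => by rw [hj]; exact hd s)
  haveI := hι
  haveI := hιfp
  haveI : IsClosedImmersion (k ≫ ι) := by rw [hk]; infer_instance
  haveI : IsClosedImmersion k := IsClosedImmersion.of_comp k ι
  let fZ : Z ⟶ S := ι ≫ (D.obj j₀).hom
  let A : CommRingCat.{u} := Γ(S, ⊤)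
  let g : Z ⟶ (FPModelLib.zCone A).pt := fZ ≫ S.isoSpec.hom
  haveI : IsProper g := inferInstanceAs (IsProper ((ι ≫ (D.obj j₀).hom) ≫ S.isoSpec.hom))
  haveI : LocallyOfFinitePresentation g :=
    inferInstanceAs (LocallyOfFinitePresentation ((ι ≫ (D.obj j₀).hom) ≫ S.isoSpec.hom))
  haveI : ∀ {i k} (a : i ⟶ k), IsAffineHom ((FPModelLib.zSys A).map a) := fun a => inferInstance
  haveI : CompactSpace (FPModelLib.zCone A).pt := inferInstanceAs (CompactSpace (Spec A))
  haveI : QuasiSeparatedSpace (FPModelLib.zCone A).pt := inferInstanceAs (QuasiSeparatedSpace (Spec A))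
  obtain ⟨i, G, g₀, q, hGc, hGqs, hg₀, hsq⟩ :=
    NApproxLib.exists_proper_stage_model (FPModelLib.zSys A) (FPModelLib.zCone A) (FPModelLib.isLimitZCone A) g
  haveI := hg₀
  haveI : ∀ k, IsLocallyNoetherian ((FPModelLib.zSys A).obj k) := fun k => by
    haveI := FPModelLib.finiteType_zSys A k
    haveI : IsNoetherianRing k.unop.1 := Algebra.FiniteType.isNoetherianRing ℤ _
    exact inferInstanceAs (IsLocallyNoetherian (Spec (CommRingCat.of k.unop.1)))
  haveI : IsNoetherian ((FPModelLib.zSys A).obj i) := { }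
  haveI : LocallyOfFinitePresentation g₀ := inferInstance
  let E : Set ((FPModelLib.zSys A).obj i) := {z | topologicalKrullDim ↥(g₀.fiber z) ≤ d}
  have hEc : Topology.IsLocallyConstructible E :=
    (IsRetrocompact.isLocallyConstructible (Groth.Agent.S0403.result g₀ d)
      fun U _ _ => NoetherianSpace.isCompact _)
  have hdg : ∀ s, topologicalKrullDim ↥(g.fiber s) ≤ d := fun s => by
    have hiso : IsPullback (𝟙 Z) g fZ S.isoSpec.inv := IsPullback.of_horiz_isIso ⟨by simp [g]⟩
    exact (Groth.Agent.S9777.result fZ _ g (𝟙 Z) hiso s).trans_le (hZ _)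
  obtain ⟨l, φ, hl⟩ := FPModelLib.exists_stage_forall_mem (FPModelLib.zSys A) (FPModelLib.zCone A)
    (FPModelLib.isLimitZCone A) hEc fun s => (Groth.Agent.S9777.result g₀ _ g q hsq s).symm.trans_le (hdg s)
  let t : Z ⟶ pullback g₀ ((FPModelLib.zSys A).map φ) :=
    pullback.lift q (g ≫ (FPModelLib.zCone A).π.app l) (by rw [Category.assoc, (FPModelLib.zCone A).w, hsq.w])
  have ht : IsPullback t g (pullback.snd g₀ ((FPModelLib.zSys A).map φ)) ((FPModelLib.zCone A).π.app l) :=
    IsPullback.of_right (by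
      rw [pullback.lift_fst, (FPModelLib.zCone A).w]
      exact hsq) (pullback.lift_snd _ _ _) (IsPullback.of_hasPullback g₀ ((FPModelLib.zSys A).map φ))
  haveI : IsAffine (FPModelLib.zCone A).pt := inferInstanceAs (IsAffine (Spec A))
  haveI : IsAffineHom ((FPModelLib.zCone A).π.app l) :=
    @isAffineHom_of_isAffine _ _ _ (inferInstanceAs (IsAffine (Spec A))) inferInstance
  haveI : IsAffineHom t := MorphismProperty.of_isPullback ht.flip ‹_›
  refine ⟨_, _, pullback.snd g₀ ((FPModelLib.zSys A).map φ), k ≫ t,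
    MorphismProperty.pullback_snd _ _ hg₀, inferInstance, inferInstance, inferInstance, fun s => ?_⟩
  exact (Groth.Agent.S9777.result g₀ _ _ _ (IsPullback.of_hasPullback g₀ ((FPModelLib.zSys A).map φ)) s).trans_le (hl s)

/-- Over an affine base, quasi-coherent modules on a proper scheme have no cohomology above the dimension
of the fibres. -/
theorem subsingleton_HU_affine {X S : Scheme.{u}} (f : X ⟶ S) [IsProper f] [IsAffine S] (d : ℕ)
    (hd : ∀ s, topologicalKrullDim ↥(f.fiber s) ≤ d) (M : X.Modules) [Coh.IsQCoh M] (p : ℕ) (hp : d ≤ p) :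
    Subsingleton (HU (⊤ : X.Opens) (Coh.toAb M) (p + 1)) := by
  obtain ⟨X₀, S₀, f₀, h, h1, h2, h3, h4, h5⟩ := exists_noetherian_model f d hd
  haveI := h1
  haveI := h2
  haveI := h3
  haveI := h4
  have hac : ProperFin.AffAcyclic h M := fun V hV n => affine_vanishing M (hV.preimage h) n
  haveI : Coh.IsQCoh ((Scheme.Modules.pushforward h).obj M) := QCohLib.isQCoh_pushforward M h
  obtain ⟨e, -⟩ := ProperFin.exists_pushEquiv h hac (p + 1)
  haveI := subsingleton_HH _ _ (subsingleton_HU_noetherian_qc f₀ d h5 ((Scheme.Modules.pushforward h).obj M) p hp)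
  exact (((HHEquiv M (p + 1)).symm.trans e).toEquiv).subsingleton

/-- The higher direct images over an affine open above which the fibres have dimension at most `d`. -/
theorem subsingleton_rpush_sections {X Y : Scheme.{u}} (f : X ⟶ Y) [IsProper f] (d : ℕ) {W : Y.Opens}
    (hW : IsAffineOpen W) (hd : ∀ y ∈ W, topologicalKrullDim ↥(f.fiber y) ≤ d) (M : X.Modules)
    [Coh.IsQCoh M] (p : ℕ) (hp : d ≤ p) :
    Subsingleton Γ((Coh.Rpush f (p + 1)).obj M, W) := by
  haveI : IsAffine W.toScheme := hW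
  haveI : HasInjectiveResolutions X.Modules := inferInstance
  have hsq := isPullback_morphismRestrict f W
  have hdW : ∀ s, topologicalKrullDim ↥((f ∣_ W).fiber s) ≤ d := fun s =>
    (Groth.Agent.S9777.result f W.ι (f ∣_ W) (f ⁻¹ᵁ W).ι hsq.flip s).trans_le (hd _ s.2)
  haveI : Coh.IsQCoh (M.restrict (f ⁻¹ᵁ W).ι) :=
    (SheafOfModules.isQuasicoherent (f ⁻¹ᵁ W).toScheme.ringCatSheaf).prop_of_iso
      ((Scheme.Modules.restrictFunctorIsoPullback (f ⁻¹ᵁ W).ι).app M).symm
      (PullbackMod.isQCoh_pullback (f ⁻¹ᵁ W).ι M)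
  haveI := subsingleton_HH _ _ (subsingleton_HU_affine (f ∣_ W) d hdW (M.restrict (f ⁻¹ᵁ W).ι) p hp)
  obtain ⟨e, -⟩ := RpushLib.exists_sections_equiv (M := M) f (p + 1) hW
  exact e.toEquiv.subsingleton

theorem subsingleton_HU_preimage {X Y : Scheme.{u}} (f : X ⟶ Y) [IsProper f] (d : ℕ) {W : Y.Opens}
    (hW : IsAffineOpen W) (hd : ∀ y ∈ W, topologicalKrullDim ↥(f.fiber y) ≤ d) (M : X.Modules)
    [Coh.IsQCoh M] (p : ℕ) (hp : d ≤ p) : Subsingleton (HU (f ⁻¹ᵁ W) (Coh.toAb M) (p + 1)) := by
  haveI : HasInjectiveResolutions X.Modules := inferInstance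
  haveI := subsingleton_rpush_sections f d hW hd M p hp
  obtain ⟨e⟩ := RpushLib.nonempty_sections f (M := M) p hW
  exact e.symm.toEquiv.subsingleton

end Groth.Agent.FibreVanishQC
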