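import Groth.Agent.FibreVanishQC.TopDegree
import Groth.Agent.AmpleLib.Pullback
import Groth.Agent.DevLib.Closed

/-! Vanishing of the top degree cohomology of the structure sheaf is stable under affine base change. -/

set_option autoImplicit false
set_option backward.isDefEq.respectTransparency false
set_option linter.style.haveILetI false
set_option maxHeartbeats 1000000

universe u

open CategoryTheory CategoryTheory.Limits AlgebraicGeometry Opposite TopologicalSpace
open Groth.Agent.CohBase

noncomputable section

namespace Groth.Agent.FibreVanishQC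

/-- The map of structure modules of a morphism. -/
def structMap {X Y : Scheme.{u}} (g : X ⟶ Y) :
    Coh.structureModule Y ⟶ (Scheme.Modules.pushforward g).obj (Coh.structureModule X) :=
  SheafOfModules.unitToPushforwardObjUnit g.toRingCatSheafHom

/-- Scalars after the map of structure modules. -/
theorem structMap_smul_app {X Y : Scheme.{u}} (g : X ⟶ Y) (r : Coh.Γtop X) (V : Y.Opens) (b : Γ(Y, V)) :
    (structMap g ≫ (Scheme.Modules.pushforward g).map (Formal.smulModΓ (Coh.structureModule X) r)).app V b =
      (X.presheaf.map (homOfLE (le_top : g ⁻¹ᵁ V ≤ ⊤)).op r * g.app V b : Γ(X, g ⁻¹ᵁ V)) := rfl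

/-- If the cohomology of the structure sheaf of a proper scheme over an affine base vanishes in the degree
of a bound for the dimension of the fibres, it does so after an affine base change. -/
theorem subsingleton_HH_baseChange {X S X' S' : Scheme.{u}} {f : X ⟶ S} [IsProper f] [IsAffine S] [IsAffine S']
    {g : S' ⟶ S} {f' : X' ⟶ S'} {g' : X' ⟶ X} (sq : IsPullback g' f' f g) (d : ℕ)
    (hd : ∀ s, topologicalKrullDim ↥(f.fiber s) ≤ d)
    (h : Subsingleton (Coh.HH X (Coh.structureModule X) d)) :
    Subsingleton (Coh.HH X' (Coh.structureModule X') d) := by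
  haveI : CompactSpace X := QuasiCompact.compactSpace_of_compactSpace f
  haveI : X.IsSeparated := ⟨by
    rw [← terminal.comp_from f]
    infer_instance⟩
  haveI : IsAffineHom g := isAffineHom_of_isAffine _
  haveI : IsAffineHom g' := MorphismProperty.of_isPullback sq.flip ‹_›
  haveI : IsClosedImmersion (pullback.lift g' f' sq.w) := by
    have e : pullback.lift g' f' sq.w = sq.isoPullback.hom := pullback.hom_ext
      (by rw [pullback.lift_fst, IsPullback.isoPullback_hom_fst])
      (by rw [pullback.lift_snd, IsPullback.isoPullback_hom_snd])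
    rw [e]
    infer_instance
  haveI : Coh.IsQCoh (Coh.structureModule X) := inferInstance
  haveI : Coh.IsQCoh (Coh.structureModule X') := inferInstance
  let N : X.Modules := (Scheme.Modules.pushforward g').obj (Coh.structureModule X')
  haveI : Coh.IsQCoh N := QCohLib.isQCoh_pushforward (Coh.structureModule X') g'
  let 𝒰 := X.affineCover.finiteSubcover
  let U : 𝒰.I₀ → X.Opens := fun a => (𝒰.f a).opensRange
  have hU : ∀ a, IsAffineOpen (U a) := fun a => isAffineOpen_opensRange (𝒰.f a)
  have hcov : (⊤ : X.Opens) ≤ iSup U := le_of_eq 𝒰.iSup_opensRange.symm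
  let m : Γ(S', ⊤) → (Coh.structureModule X ⟶ N) := fun a =>
    structMap g' ≫ (Scheme.Modules.pushforward g').map (Formal.smulModΓ (Coh.structureModule X') (f'.appTop a))
  have hgen : ∀ (i : Fin (d + 1) → 𝒰.I₀) (n : Γ(N, inter U i)), ∃ t : Γ(S', ⊤) →₀ Γ(Coh.structureModule X, inter U i),
      t.sum (fun a b => (m a).app (inter U i) b) = n := by
    intro i
    let V := inter U i
    let L : (Γ(S', ⊤) →₀ Γ(Coh.structureModule X, V)) →+ Γ(N, V) := Finsupp.liftAddHom fun a => ((m a).app V).hom
    suffices ∀ n : Γ(X', g' ⁻¹ᵁ V), (show Γ(N, V) from n) ∈ L.range from fun n => this n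
    intro n
    refine AddSubgroup.closure_induction (p := fun c _ => (show Γ(N, V) from c) ∈ L.range) ?_ (zero_mem L.range)
      (fun a b _ _ ha hb => add_mem ha hb) (fun a _ ha => neg_mem ha)
      (mem_closure_preimage f g' f' g sq.w (isAffineOpen_iInf_fin _ fun a => hU (i a)) n)
    rintro _ ⟨⟨b, a⟩, rfl⟩
    refine ⟨Finsupp.single a b, ?_⟩
    rw [Finsupp.liftAddHom_apply_single]
    refine (structMap_smul_app g' (f'.appTop a) V b).trans ?_
    exact mul_comm (X'.presheaf.map (homOfLE (le_top : g' ⁻¹ᵁ V ≤ ⊤)).op (f'.appTop a)) (g'.app V b)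
  obtain ⟨E, -⟩ := exists_pushEquiv' g' (Coh.structureModule X') d
  refine ⟨fun x y => E.injective ?_⟩
  suffices ∀ x, E x = 0 by rw [this, this]
  intro x
  obtain ⟨F, z, hz⟩ := exists_sum_hmap U hU hcov d
    (fun K hK => by haveI := hK; exact subsingleton_HU_affine f d hd K d le_rfl) (Coh.structureModule X) N m hgen (E x)
  haveI : Subsingleton (HU (⊤ : X.Opens) (Coh.toAb (Coh.structureModule X)) d) :=
    (HHEquiv (Coh.structureModule X) d).symm.toEquiv.subsingleton
  rw [hz]
  exact Finset.sum_eq_zero fun a _ => by rw [Subsingleton.elim (z a) 0, map_zero]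

end Groth.Agent.FibreVanishQC
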