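import Groth.Agent.FibreVanishQC.CohUnion
import Groth.Agent.NApproxLib.ProperModel
import Groth.Agent.FPModelLib.Fibre
import Groth.Agent.FPModelLib.ZSys
import Groth.Agent.RpushLib.Sections
import Groth.Agent.RpushLib.Vanish
import Groth.Agent.CurveLib.FibreVanish
import Groth.Agent.ProperFin.PushHH
import Groth.Agent.QCohLib.Push
import Groth.Agent.S0403
import Groth.Agent.S9216
import Groth.Agent.S9777

/-! A proper scheme over an affine base as a closed subscheme of the base change of a proper scheme over a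
Noetherian base with fibres of no larger dimension; the functions on its affine pieces. -/

set_option autoImplicit false
set_option backward.isDefEq.respectTransparency false
set_option linter.style.haveILetI false

universe u

open CategoryTheory CategoryTheory.Limits AlgebraicGeometry Opposite TopologicalSpace
open Groth.Agent.CohBase

noncomputable section

namespace Groth.Agent.FibreVanishQC

/-- A proper scheme over an affine base maps affinely to one over a Noetherian affine base with fibres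
of no larger dimension. -/
theorem exists_noetherian_model' {X S : Scheme.{u}} (f : X ⟶ S) [IsProper f] [IsAffine S] (d : ℕ)
    (hd : ∀ s, topologicalKrullDim ↥(f.fiber s) ≤ d) :
    ∃ (X₀ S₀ : Scheme.{u}) (f₀ : X₀ ⟶ S₀) (h : X ⟶ X₀) (gS : S ⟶ S₀) (w : h ≫ f₀ = f ≫ gS),
      IsProper f₀ ∧ IsAffine S₀ ∧ IsLocallyNoetherian S₀ ∧ IsAffineHom h ∧
      IsClosedImmersion (pullback.lift h f w) ∧ ∀ s, topologicalKrullDim ↥(f₀.fiber s) ≤ d := by
  obtain ⟨J, _, _, _, D, c, -, e, -, hobj⟩ := NApproxLib.exists_proper_limit f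
  let j₀ : Jᵒᵖ := op (Classical.arbitrary J)
  obtain ⟨hcl, hpr, hlfp⟩ := hobj j₀
  haveI := hcl
  haveI := hpr
  haveI := hlfp
  haveI : IsIso e.inv.left := inferInstanceAs (IsIso ((Over.forget S).map e.inv))
  let j : X ⟶ (D.obj j₀).left := e.inv.left ≫ (c.π.app j₀).left
  have hj : j ≫ (D.obj j₀).hom = f := by
    rw [Category.assoc]
    erw [Over.w (c.π.app j₀)]
    exact Over.w e.inv
  haveI : IsClosedImmersion j := inferInstance
  obtain ⟨Z, ι, k, hι, hιfp, hk, hZ⟩ := Groth.Agent.S9216.result (D.obj j₀).hom d j (fun s => by rw [hj]; exact hd s)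
  haveI := hι
  haveI := hιfp
  haveI : IsClosedImmersion (k ≫ ι) := by rw [hk]; infer_instance
  haveI : IsClosedImmersion k := IsClosedImmersion.of_comp k ι
  let fZ : Z ⟶ S := ι ≫ (D.obj j₀).hom
  let A : CommRingCat.{u} := Γ(S, ⊤)
  let g : Z ⟶ (FPModelLib.zCone A).pt := fZ ≫ S.isoSpec.hom
  haveI : IsProper g := inferInstanceAs (IsProper ((ι ≫ (D.obj j₀).hom) ≫ S.isoSpec.hom))
  haveI : LocallyOfFinitePresentation g :=
    inferInstanceAs (LocallyOfFinitePresentation ((ι ≫ (D.obj j₀).hom) ≫ S.isoSpec.hom))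
  haveI : ∀ {i k} (a : i ⟶ k), IsAffineHom ((FPModelLib.zSys A).map a) := fun a => inferInstance
  haveI : CompactSpace (FPModelLib.zCone A).pt := inferInstanceAs (CompactSpace (Spec A))
  haveI : QuasiSeparatedSpace (FPModelLib.zCone A).pt := inferInstanceAs (QuasiSeparatedSpace (Spec A))
  obtain ⟨i, G, g₀, q, hGc, hGqs, hg₀, hsq⟩ :=
    NApproxLib.exists_proper_stage_model (FPModelLib.zSys A) (FPModelLib.zCone A) (FPModelLib.isLimitZCone A) g
  haveI := hg₀
  haveI : ∀ k, IsLocallyNoetherian ((FPModelLib.zSys A).obj k) := fun k => by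
    haveI := FPModelLib.finiteType_zSys A k
    haveI : IsNoetherianRing k.unop.1 := Algebra.FiniteType.isNoetherianRing ℤ _
    exact inferInstanceAs (IsLocallyNoetherian (Spec (CommRingCat.of k.unop.1)))
  haveI : IsNoetherian ((FPModelLib.zSys A).obj i) := { }
  haveI : LocallyOfFinitePresentation g₀ := inferInstance
  let E : Set ((FPModelLib.zSys A).obj i) := {z | topologicalKrullDim ↥(g₀.fiber z) ≤ d}
  have hEc : Topology.IsLocallyConstructible E :=
    (IsRetrocompact.isLocallyConstructible (Groth.Agent.S0403.result g₀ d)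
      fun U _ _ => NoetherianSpace.isCompact _)
  have hdg : ∀ s, topologicalKrullDim ↥(g.fiber s) ≤ d := fun s => by
    have hiso : IsPullback (𝟙 Z) g fZ S.isoSpec.inv := IsPullback.of_horiz_isIso ⟨by simp [g]⟩
    exact (Groth.Agent.S9777.result fZ _ g (𝟙 Z) hiso s).trans_le (hZ _)
  obtain ⟨l, φ, hl⟩ := FPModelLib.exists_stage_forall_mem (FPModelLib.zSys A) (FPModelLib.zCone A)
    (FPModelLib.isLimitZCone A) hEc fun s => (Groth.Agent.S9777.result g₀ _ g q hsq s).symm.trans_le (hdg s)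
  let t : Z ⟶ pullback g₀ ((FPModelLib.zSys A).map φ) :=
    pullback.lift q (g ≫ (FPModelLib.zCone A).π.app l) (by rw [Category.assoc, (FPModelLib.zCone A).w, hsq.w])
  have ht : IsPullback t g (pullback.snd g₀ ((FPModelLib.zSys A).map φ)) ((FPModelLib.zCone A).π.app l) :=
    IsPullback.of_right (by
      rw [pullback.lift_fst, (FPModelLib.zCone A).w]
      exact hsq) (pullback.lift_snd _ _ _) (IsPullback.of_hasPullback g₀ ((FPModelLib.zSys A).map φ))
  haveI : IsAffine (FPModelLib.zCone A).pt := inferInstanceAs (IsAffine (Spec A))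
  haveI : IsAffineHom ((FPModelLib.zCone A).π.app l) :=
    @isAffineHom_of_isAffine _ _ _ (inferInstanceAs (IsAffine (Spec A))) inferInstance
  haveI : IsAffineHom t := MorphismProperty.of_isPullback ht.flip ‹_›
  let gS : S ⟶ (FPModelLib.zSys A).obj l := S.isoSpec.hom ≫ (FPModelLib.zCone A).π.app l
  have hZS : IsPullback t fZ (pullback.snd g₀ ((FPModelLib.zSys A).map φ)) gS := by
    have h0 : IsPullback (𝟙 Z) fZ g S.isoSpec.hom := IsPullback.of_horiz_isIso ⟨by simp [g]⟩
    simpa [gS] using h0.paste_horiz ht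
  have w : (k ≫ t) ≫ pullback.snd g₀ ((FPModelLib.zSys A).map φ) = f ≫ gS := by
    rw [Category.assoc, hZS.w, ← Category.assoc]
    congr 1
    show k ≫ ι ≫ (D.obj j₀).hom = f
    rw [reassoc_of% hk]
    exact hj
  have hl' : pullback.lift (k ≫ t) f w = k ≫ hZS.isoPullback.hom := by
    refine pullback.hom_ext ?_ ?_
    · rw [pullback.lift_fst, Category.assoc, IsPullback.isoPullback_hom_fst]
    · rw [pullback.lift_snd, Category.assoc, IsPullback.isoPullback_hom_snd]
      show f = k ≫ ι ≫ (D.obj j₀).hom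
      rw [reassoc_of% hk]
      exact hj.symm
  refine ⟨_, _, pullback.snd g₀ ((FPModelLib.zSys A).map φ), k ≫ t, gS, w,
    MorphismProperty.pullback_snd _ _ hg₀, inferInstance, inferInstance, inferInstance,
    by rw [hl']; infer_instance, fun s => ?_⟩
  exact (Groth.Agent.S9777.result g₀ _ _ _ (IsPullback.of_hasPullback g₀ ((FPModelLib.zSys A).map φ)) s).trans_le (hl s)

/-- Functions on the preimage of an affine open are generated by functions on the open and on the base. -/
theorem mem_closure_preimage {X S X₀ S₀ : Scheme.{u}} [IsAffine S] [IsAffine S₀] (f₀ : X₀ ⟶ S₀) (h : X ⟶ X₀)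
    (f : X ⟶ S) (gS : S ⟶ S₀) (w : h ≫ f₀ = f ≫ gS) [IsClosedImmersion (pullback.lift h f w)]
    {V : X₀.Opens} (hV : IsAffineOpen V) (c : Γ(X, h ⁻¹ᵁ V)) :
    c ∈ AddSubgroup.closure (Set.range fun ba : Γ(X₀, V) × Γ(S, ⊤) =>
      h.app V ba.1 * X.presheaf.map (homOfLE (le_top : h ⁻¹ᵁ V ≤ ⊤)).op (f.appTop ba.2)) := by
  let L := pullback.lift h f w
  let W : (pullback f₀ gS).Opens := pullback.fst f₀ gS ⁻¹ᵁ V
  haveI : IsAffineHom gS := isAffineHom_of_isAffine _
  haveI : IsAffineHom (pullback.fst f₀ gS) := MorphismProperty.pullback_fst _ _ ‹_›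
  have hW : IsAffineOpen W := hV.preimage _
  haveI : IsAffine V.toScheme := hV
  have e : L ⁻¹ᵁ W = h ⁻¹ᵁ V := by
    rw [← Scheme.Hom.comp_preimage, pullback.lift_fst]
  have hsq := (isPullback_morphismRestrict (pullback.fst f₀ gS) V).paste_vert (IsPullback.of_hasPullback f₀ gS)
  have hpo := isPushout_appTop_of_isPullback hsq
  obtain ⟨c', rfl⟩ : ∃ c', L.appLE W (h ⁻¹ᵁ V) e.ge c' = c := by
    have key : ∀ U : (pullback f₀ gS).Opens, IsAffineOpen U → Function.Surjective (L.app (U.ι ''ᵁ ⊤)) := fun U hU => by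
      haveI : IsAffine U.toScheme := hU
      have h2 := (IsClosedImmersion.isAffine_surjective_of_isAffine (L ∣_ U)).2
      rw [morphismRestrict_appTop] at h2
      intro y
      obtain ⟨z, hz⟩ := h2 (X.presheaf.map (eqToHom (image_morphismRestrict_preimage L U ⊤)).op y)
      exact ⟨z, (ConcreteCategory.bijective_of_isIso (X.presheaf.map (eqToHom (image_morphismRestrict_preimage L U ⊤)).op)).1 hz⟩
    have hs := key W hW
    rw [Scheme.Opens.ι_image_top] at hs
    obtain ⟨y, hy⟩ := (ConcreteCategory.bijective_of_isIso (X.presheaf.map (eqToHom e.symm).op)).2 c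
    obtain ⟨z, rfl⟩ := hs y
    exact ⟨z, hy⟩
  let T : AddSubgroup Γ(X, h ⁻¹ᵁ V) := AddSubgroup.closure (Set.range fun ba : Γ(X₀, V) × Γ(S, ⊤) =>
      h.app V ba.1 * X.presheaf.map (homOfLE (le_top : h ⁻¹ᵁ V ≤ ⊤)).op (f.appTop ba.2))
  let φ : Γ(W.toScheme, ⊤) ⟶ Γ(X, h ⁻¹ᵁ V) := W.topIso.hom ≫ L.appLE W (h ⁻¹ᵁ V) e.ge
  suffices ∀ z, φ z ∈ T by
    have := this (W.topIso.inv c')
    rwa [show φ (W.topIso.inv c') = L.appLE W (h ⁻¹ᵁ V) e.ge c' from
      congrArg (fun k => k c') (W.topIso.inv_hom_id_assoc (L.appLE W (h ⁻¹ᵁ V) e.ge))] at this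
  have hmul : ∀ z ∈ T, ∀ z' ∈ T, z * z' ∈ T := by
    intro z hz z' hz'
    induction hz using AddSubgroup.closure_induction with
    | zero => rw [zero_mul]; exact T.zero_mem
    | add a b _ _ ha hb => rw [add_mul]; exact T.add_mem ha hb
    | neg a _ ha => rw [neg_mul]; exact T.neg_mem ha
    | mem a ha =>
      induction hz' using AddSubgroup.closure_induction with
      | zero => rw [mul_zero]; exact T.zero_mem
      | add a b _ _ ha hb => rw [mul_add]; exact T.add_mem ha hb
      | neg a _ ha => rw [mul_neg]; exact T.neg_mem ha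
      | mem b hb =>
        obtain ⟨⟨b₁, a₁⟩, rfl⟩ := ha
        obtain ⟨⟨b₂, a₂⟩, rfl⟩ := hb
        exact AddSubgroup.subset_closure ⟨(b₁ * b₂, a₁ * a₂), by simp only [map_mul]; ring⟩
  let R : Subring Γ(X, h ⁻¹ᵁ V) :=
    { T with
      one_mem' := AddSubgroup.subset_closure ⟨(1, 1), by simp⟩
      mul_mem' := fun {z z'} hz hz' => hmul z hz z' hz' }
  let R' : Subring Γ(W.toScheme, ⊤) := R.comap φ.hom
  have hl : ∀ b, (pullback.fst f₀ gS ∣_ V).appTop b ∈ R' := fun b => by
    show φ _ ∈ T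
    refine AddSubgroup.subset_closure ⟨(V.topIso.hom b, 1), ?_⟩
    simp only [map_one, mul_one]
    have := congrArg (fun k => k b) (show V.topIso.hom ≫ h.app V = (pullback.fst f₀ gS ∣_ V).appTop ≫ φ by
      simp only [φ]
      rw [morphismRestrict_appTop]
      simp only [Scheme.Opens.topIso_hom, Category.assoc, Scheme.Hom.app_eq_appLE, Scheme.Hom.map_appLE,
        Scheme.Hom.appLE_map, Scheme.Hom.appLE_comp_appLE]
      erw [Scheme.Hom.appLE_comp_appLE]
      exact NApproxLib.appLE_congr_hom (pullback.lift_fst h f w).symm _)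
    exact this
  have hr : ∀ a, (W.ι ≫ pullback.snd f₀ gS).appTop a ∈ R' := fun a => by
    show φ _ ∈ T
    refine AddSubgroup.subset_closure ⟨(1, a), ?_⟩
    simp only [map_one, one_mul]
    have := congrArg (fun k => k a) (show f.appTop ≫ X.presheaf.map (homOfLE (le_top : h ⁻¹ᵁ V ≤ ⊤)).op =
        (W.ι ≫ pullback.snd f₀ gS).appTop ≫ φ by
      simp only [φ]
      rw [Scheme.Hom.comp_appTop, Scheme.Opens.ι_appTop]
      simp only [Scheme.Hom.appTop, Scheme.Opens.topIso_hom, Category.assoc, Scheme.Hom.app_eq_appLE,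
        Scheme.Hom.map_appLE, Scheme.Hom.appLE_map, Scheme.Hom.appLE_comp_appLE]
      exact NApproxLib.appLE_congr_hom (pullback.lift_snd h f w).symm _)
    exact this
  let P' : CommRingCat.{u} := CommRingCat.of R'
  let i₁ : Γ(V.toScheme, ⊤) ⟶ P' := CommRingCat.ofHom ((pullback.fst f₀ gS ∣_ V).appTop.hom.codRestrict R' hl)
  let i₂ : Γ(S, ⊤) ⟶ P' := CommRingCat.ofHom ((W.ι ≫ pullback.snd f₀ gS).appTop.hom.codRestrict R' hr)
  have hi : (V.ι ≫ f₀).appTop ≫ i₁ = gS.appTop ≫ i₂ := by
    refine CommRingCat.hom_ext (RingHom.ext fun x => Subtype.ext ?_)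
    exact congrArg (fun k => k x) hpo.w
  have hu : hpo.desc i₁ i₂ hi ≫ CommRingCat.ofHom R'.subtype = 𝟙 _ :=
    hpo.hom_ext (by rw [hpo.inl_desc_assoc, Category.comp_id]; rfl) (by rw [hpo.inr_desc_assoc, Category.comp_id]; rfl)
  intro z
  have hz := congrArg (fun k => k z) hu
  have h3 : R'.subtype (hpo.desc i₁ i₂ hi z) = z := hz
  rw [← h3]
  exact (hpo.desc i₁ i₂ hi z).2

end Groth.Agent.FibreVanishQC
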