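import Groth.Agent.FibreVanishQC.Main
import Groth.Agent.FibreVanishQC.Model
import Groth.Agent.CohBase.Functorial
import Groth.Agent.DCohLib.HDCoprod
import Groth.Agent.ProperFin.Main
import Groth.Prelude.Def_Formal

/-! The top degree cohomology of a finite type quasi-coherent module on a proper scheme: it is right exact, so
it is generated over the base by the top degree cohomology of a coherent module on a Noetherian model. -/

set_option autoImplicit false
set_option backward.isDefEq.respectTransparency false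
set_option linter.style.haveILetI false
set_option maxHeartbeats 1000000

universe u

open CategoryTheory CategoryTheory.Limits AlgebraicGeometry Opposite TopologicalSpace
open Groth.Agent.CohBase

noncomputable section

namespace Groth.Agent.FibreVanishQC

/-- The action of a morphism on a class, additively in the morphism. -/
def hmapHom {X : Scheme.{u}} {G N : X.Modules} (n : ℕ) (w : HU (⊤ : X.Opens) (Coh.toAb G) n) :
    (G ⟶ N) →+ HU (⊤ : X.Opens) (Coh.toAb N) n :=
  AddMonoidHom.mk' (fun f => hmap (⊤ : X.Opens) ((QCohLib.toAbF X).map f) n w) fun a b => by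
    rw [hmap_apply, hmap_apply, hmap_apply, Functor.map_add, Abelian.Ext.mk₀_add, Abelian.Ext.comp_add]

theorem hmap_hmap {X : Scheme.{u}} {F G H : AbSh X} (f : F ⟶ G) (g : G ⟶ H) (n : ℕ)
    (x : HU (⊤ : X.Opens) F n) : hmap ⊤ g n (hmap ⊤ f n x) = hmap ⊤ (f ≫ g) n x := by
  simp only [hmap_apply]
  rw [Abelian.Ext.comp_assoc_of_second_deg_zero, Abelian.Ext.mk₀_comp_mk₀]

/-- Right exactness in the top degree: if the sections of `N` over affine opens are spanned by the images of
those of `G` under a family of maps, so is the cohomology, once the next degree vanishes. -/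
theorem exists_sum_hmap {X : Scheme.{u}} [X.IsSeparated] {κ : Type u} [Finite κ] (U : κ → X.Opens)
    (hU : ∀ a, IsAffineOpen (U a)) (hcov : (⊤ : X.Opens) ≤ iSup U) (d : ℕ)
    (hvan : ∀ K : X.Modules, Coh.IsQCoh K → Subsingleton (HU (⊤ : X.Opens) (Coh.toAb K) (d + 1)))
    {A : Type u} (G N : X.Modules) [Coh.IsQCoh G] [Coh.IsQCoh N] (m : A → (G ⟶ N))
    (hgen : ∀ (i : Fin (d + 1) → κ) (n : Γ(N, inter U i)), ∃ t : A →₀ Γ(G, inter U i),
      t.sum (fun a g => (m a).app (inter U i) g) = n)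
    (x : HU (⊤ : X.Opens) (Coh.toAb N) d) :
    ∃ (F : Finset A) (y : A → HU (⊤ : X.Opens) (Coh.toAb G) d),
      x = ∑ a ∈ F, hmap (⊤ : X.Opens) ((QCohLib.toAbF X).map (m a)) d (y a) := by
  classical
  haveI : HasFiniteBiproducts X.Modules := Abelian.hasFiniteBiproducts
  have hint : ∀ (k : ℕ) (i : Fin (k + 1) → κ), IsAffineOpen (inter U i) :=
    fun k i => isAffineOpen_iInf_fin _ fun a => hU (i a)
  obtain ⟨c, rfl⟩ := cmp_surjective U hcov (acyclic_of_affine N U hint) d x
  choose t ht using fun i => hgen i (c.1 i)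
  haveI : Fintype κ := Fintype.ofFinite κ
  let F : Finset A := Finset.univ.biUnion fun i => (t i).support
  let G' : X.Modules := ⨁ fun _ : F => G
  have hG' : Coh.IsQCoh G' := DCohLib.isQCoh_of_iso' (biproduct.isoCoproduct _).symm
    (DCohLib.isQCoh_sigma_modules _ fun _ => inferInstance)
  haveI := hG'
  let ψ : G' ⟶ N := biproduct.desc fun a : F => m a.1
  let S := ShortComplex.mk (kernel.ι (factorThruImage ψ)) (factorThruImage ψ) (kernel.condition _)
  have hS : S.ShortExact :=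
    { exact := ShortComplex.exact_of_f_is_kernel _ (kernelIsKernel (factorThruImage ψ)) }
  have hK : Coh.IsQCoh S.X₁ := DCohLib.isQCoh_of_iso'
    (kernelIsoOfEq (Limits.image.fac ψ).symm ≪≫ kernelCompMono (factorThruImage ψ) (Limits.image.ι ψ))
    (QCohLib.isQCoh_image ψ hG' ‹_›).1
  have hI : Coh.IsQCoh (Limits.image ψ) := QCohLib.isQCoh_X₃ hS hK hG'
  haveI := hI
  let e : (Coh.toAb G').obj ⟶ (Coh.toAb (Limits.image ψ)).obj := ((QCohLib.toAbF X).map (factorThruImage ψ)).hom
  let j : (Coh.toAb (Limits.image ψ)).obj ⟶ (Coh.toAb N).obj := ((QCohLib.toAbF X).map (Limits.image.ι ψ)).hom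
  let c' : CC U (Coh.toAb G').obj d := fun i =>
    ∑ a : F, (biproduct.ι (fun _ : F => G) a).app (inter U i) (t i a.1)
  have hc' : ccMap U j d (ccMap U e d c') = c.1 := by
    funext i
    refine Eq.trans ?_ (ht i)
    show (Limits.image.ι ψ).app _ ((factorThruImage ψ).app _ (c' i)) = _
    rw [show (Limits.image.ι ψ).app (inter U i) ((factorThruImage ψ).app _ (c' i)) = ψ.app _ (c' i) from
      congrArg (fun k : G' ⟶ N => k.app (inter U i) (c' i)) (Limits.image.fac ψ)]
    rw [map_sum]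
    have : ∀ a : F, ψ.app (inter U i) ((biproduct.ι (fun _ : F => G) a).app _ (t i a.1)) =
        (m a.1).app (inter U i) (t i a.1) :=
      fun a => congrArg (fun k : G ⟶ N => k.app (inter U i) (t i a.1)) (biproduct.ι_desc (fun a : F => m a.1) a)
    simp only [this]
    rw [Finset.sum_coe_sort F fun a => (m a).app (inter U i) (t i a), Finsupp.sum_of_support_subset (t i)
      (Finset.subset_biUnion_of_mem (fun i => (t i).support) (Finset.mem_univ i)) _ fun a _ => map_zero _]
  haveI : Mono ((QCohLib.toAbF X).map (Limits.image.ι ψ)) := inferInstance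
  have hinj : Function.Injective (ccMap U j (d + 1)) := fun a b hab =>
    funext fun i => sections_injective ((QCohLib.toAbF X).map (Limits.image.ι ψ)) _ (congrFun hab i)
  have hz : cdiff U (Coh.toAb (Limits.image ψ)).obj d (ccMap U e d c') = 0 :=
    hinj (by rw [← cdiff_ccMap, hc', map_zero]; exact c.2)
  let z : Zc U (Coh.toAb (Limits.image ψ)).obj d := ⟨_, hz⟩
  have hS' := QCohLib.toAb_shortExact hS
  haveI : Subsingleton (HU (⊤ : X.Opens) (S.map (QCohLib.toAbF X)).X₁ (d + 1)) := hvan _ hK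
  obtain ⟨w, hw⟩ := (hδ_eq_zero_iff hS' ⊤ d (cmp U hcov (acyclic_of_affine _ U hint) d z)).1
    (Subsingleton.elim _ _)
  refine ⟨F, fun a => if h : a ∈ F then
    hmap ⊤ ((QCohLib.toAbF X).map (biproduct.π (fun _ : F => G) ⟨a, h⟩)) d w else 0, ?_⟩
  rw [cmp_natural U hcov (acyclic_of_affine _ U hint) (acyclic_of_affine N U hint)
    ((QCohLib.toAbF X).map (Limits.image.ι ψ)) z c hc'.symm, ← hw]
  rw [← Finset.sum_coe_sort F]
  simp only [Finset.coe_mem, dite_true, hmap_hmap, ← Functor.map_comp]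
  refine (hmap_hmap _ _ _ _).trans ?_
  show hmap ⊤ ((QCohLib.toAbF X).map (factorThruImage ψ) ≫ (QCohLib.toAbF X).map (Limits.image.ι ψ)) d w = _
  rw [← Functor.map_comp, Limits.image.fac]
  have h1 : ψ = ∑ a : F, biproduct.π (fun _ : F => G) a ≫ m a.1 := by
    refine biproduct.hom_ext' _ _ fun b => ?_
    rw [biproduct.ι_desc, Preadditive.comp_sum, Finset.sum_eq_single b
      (fun c _ hc => by rw [biproduct.ι_π_ne_assoc _ (Ne.symm hc), zero_comp])
      (fun h => absurd (Finset.mem_univ b) h), biproduct.ι_π_self_assoc]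
  show hmapHom d w ψ = _
  rw [h1, map_sum]
  rfl

/-- The comparison of cohomology with that of the direct image under an affine morphism, for all
endomorphisms. -/
theorem exists_pushEquiv' {X Y : Scheme.{u}} (g : X ⟶ Y) [IsAffineHom g] (M : X.Modules) [Coh.IsQCoh M] (n : ℕ) :
    ∃ E : Coh.HH X M n ≃+ HU (⊤ : Y.Opens) (Coh.toAb ((Scheme.Modules.pushforward g).obj M)) n,
      ∀ (r : Coh.Γtop X) (x : Coh.HH X M n),
        E (r • x) = hmap ⊤ ((pushS g.base).map (Coh.smulAb M r)) n (E x) := by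
  obtain ⟨e, he⟩ := hasPushNat g.base (B := fun V : Y.Opens => IsAffineOpen V)
    (fun W y hy => by
      obtain ⟨_, ⟨V : Y.Opens, hV, rfl⟩, hyV, hVW⟩ :=
        Y.isBasis_affineOpens.exists_subset_of_mem_open (a := y) hy W.2
      exact ⟨V, hV, hyV, hVW⟩)
    (F := Coh.toAb M) (fun V hV k => affine_vanishing M (hV.preimage g) k) n
  refine ⟨(HHEquiv M n).trans e, fun r x => ?_⟩
  show e (HEquiv (Coh.toAb M) n (Sheaf.H.map (Coh.smulAb M r) n x)) = _
  rw [HEquiv_map]
  exact he _ _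

/-- A map into a direct image carries the action of a function to that of its pullback. -/
theorem smulAb_comp_push {X Y : Scheme.{u}} (g : X ⟶ Y) (M : X.Modules) {G : Y.Modules}
    (φ : G ⟶ (Scheme.Modules.pushforward g).obj M) (c : Coh.Γtop Y) :
    Coh.smulAb G c ≫ (QCohLib.toAbF Y).map φ =
      (QCohLib.toAbF Y).map φ ≫ (pushS g.base).map (Coh.smulAb M (ProperFin.gTop g c)) :=
  (ProjCoh.smulAb_natural φ c).trans (congrArg ((QCohLib.toAbF Y).map φ ≫ ·) (ProperFin.smulAb_push g M c))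

/-- Scalars on a module, on its direct image. -/
theorem comp_push_smul {X Y : Scheme.{u}} (g : X ⟶ Y) (M : X.Modules) {G : Y.Modules}
    (φ : G ⟶ (Scheme.Modules.pushforward g).obj M) (r : Coh.Γtop X) :
    (QCohLib.toAbF Y).map (φ ≫ (Scheme.Modules.pushforward g).map (Formal.smulModΓ M r)) =
      (QCohLib.toAbF Y).map φ ≫ (pushS g.base).map (Coh.smulAb M r) :=
  (QCohLib.toAbF Y).map_comp _ _

/-- Scalars on a module act on cohomology as on that of the direct image. -/
theorem hmap_comp_push_smul {X Y : Scheme.{u}} (g : X ⟶ Y) (M : X.Modules) {G : Y.Modules}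
    (φ : G ⟶ (Scheme.Modules.pushforward g).obj M) (r : Coh.Γtop X) (n : ℕ)
    (y : HU (⊤ : Y.Opens) (Coh.toAb G) n) :
    hmap ⊤ ((QCohLib.toAbF Y).map (φ ≫ (Scheme.Modules.pushforward g).map (Formal.smulModΓ M r))) n y =
      hmap ⊤ ((pushS g.base).map (Coh.smulAb M r)) n (hmap ⊤ ((QCohLib.toAbF Y).map φ) n y) := by
  rw [comp_push_smul]
  exact (hmap_hmap _ _ n y).symm

/-- The action of a function of the target on the cohomology of the direct image. -/
theorem hmap_smul {X Y : Scheme.{u}} (g : X ⟶ Y) (M : X.Modules) {G : Y.Modules}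
    (φ : G ⟶ (Scheme.Modules.pushforward g).obj M) (c : Coh.Γtop Y) (n : ℕ) (y : Coh.HH Y G n) :
    hmap ⊤ ((QCohLib.toAbF Y).map φ) n (HHEquiv G n (c • y)) =
      hmap ⊤ ((pushS g.base).map (Coh.smulAb M (ProperFin.gTop g c))) n
        (hmap ⊤ ((QCohLib.toAbF Y).map φ) n (HHEquiv G n y)) := by
  have h1 : HHEquiv G n (c • y) = hmap ⊤ (Coh.smulAb G c) n (HHEquiv G n y) := HEquiv_map _ _ _
  rw [h1]
  exact (hmap_hmap _ _ n _).trans ((congrArg (fun k => hmap (⊤ : Y.Opens) k n (HHEquiv G n y))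
    (smulAb_comp_push g M φ c)).trans (hmap_hmap _ _ n _).symm)

/-- The top degree cohomology of a module of finite type is finite over the base. -/
theorem finite_HH_top {A : Type u} [CommRing A] {X : Scheme.{u}} (p : X ⟶ Spec (CommRingCat.of A)) [IsProper p]
    (d : ℕ) (hd : ∀ s, topologicalKrullDim ↥(p.fiber s) ≤ d) (M : X.Modules) (hM : Coh.IsCoh M) :
    @Module.Finite A (Coh.HH X M d) _ _ (Module.compHom (Coh.HH X M d) (Coh.toGlobal p)) := by
  classical
  haveI := hM.1
  obtain ⟨X₀, S₀, f₀, h, gS, w, hpr, haff, hnoe, hah, hcl, hdim⟩ := exists_noetherian_model' p d hd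
  haveI := hpr
  haveI := haff
  haveI := hnoe
  haveI := hah
  haveI := hcl
  haveI : CompactSpace X₀ := QuasiCompact.compactSpace_of_compactSpace f₀
  haveI : X₀.IsSeparated := ⟨by
    rw [← terminal.comp_from f₀]
    infer_instance⟩
  let N : X₀.Modules := (Scheme.Modules.pushforward h).obj M
  haveI : Coh.IsQCoh N := QCohLib.isQCoh_pushforward M h
  let 𝒰 := X₀.affineCover.finiteSubcover
  let U : 𝒰.I₀ → X₀.Opens := fun a => (𝒰.f a).opensRange
  have hU : ∀ a, IsAffineOpen (U a) := fun a => isAffineOpen_opensRange (𝒰.f a)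
  have hcov : (⊤ : X₀.Opens) ≤ iSup U := le_of_eq 𝒰.iSup_opensRange.symm
  have hint : ∀ i : Fin (d + 1) → 𝒰.I₀, IsAffineOpen (inter U i) := fun i =>
    isAffineOpen_iInf_fin _ fun a => hU (i a)
  haveI : ∀ i : Fin (d + 1) → 𝒰.I₀, Module.Finite Γ(X, h ⁻¹ᵁ inter U i) Γ(M, h ⁻¹ᵁ inter U i) :=
    fun i => QCohLib.finite_sections_of_isCoh hM ((hint i).preimage h)
  choose s hs using fun i : Fin (d + 1) → 𝒰.I₀ =>
    (Module.Finite.fg_top : (⊤ : Submodule Γ(X, h ⁻¹ᵁ inter U i) Γ(M, h ⁻¹ᵁ inter U i)).FG)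
  obtain ⟨G₁, hG₁⟩ := exists_forall_mem N (fun k : Σ i, ↥(s i) => inter U k.1) (fun k => hint k.1) fun k => k.2.1
  let G := SubLib.subMod G₁.1
  have hG := isCoh_subMod N G₁
  haveI := hG.1
  let m : A → (G ⟶ N) := fun a =>
    SubLib.subι G₁.1 ≫ (Scheme.Modules.pushforward h).map (Formal.smulModΓ M (Coh.toGlobal p a))
  have hgen : ∀ (i : Fin (d + 1) → 𝒰.I₀) (n : Γ(N, inter U i)), ∃ t : A →₀ Γ(G, inter U i),
      t.sum (fun a g => (m a).app (inter U i) g) = n := by
    intro i
    let V := inter U i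
    let L : (A →₀ Γ(G, V)) →+ Γ(N, V) := Finsupp.liftAddHom fun a => ((m a).app V).hom
    suffices ∀ n : Γ(M, h ⁻¹ᵁ V), n ∈ L.range from fun n => this n
    intro n
    have hn : n ∈ Submodule.span Γ(X, h ⁻¹ᵁ V) (↑(s i) : Set Γ(M, h ⁻¹ᵁ V)) := by rw [hs i]; exact Submodule.mem_top
    have key : ∀ (c : Γ(X, h ⁻¹ᵁ V)) (x : Γ(M, h ⁻¹ᵁ V)), x ∈ s i → c • x ∈ L.range := fun c x hx => by
      refine AddSubgroup.closure_induction (p := fun c _ => c • x ∈ L.range) ?_ ?_ ?_ ?_
        (mem_closure_preimage f₀ h p gS w (hint i) c)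
      · rintro _ ⟨⟨b, a⟩, rfl⟩
        obtain ⟨a, rfl⟩ := (Scheme.ΓSpecIso (CommRingCat.of A)).commRingCatIsoToRingEquiv.symm.surjective a
        refine ⟨Finsupp.single a ⟨b • (show Γ(N, V) from x), Submodule.smul_mem _ b (hG₁ ⟨i, x, hx⟩)⟩, ?_⟩
        rw [Finsupp.liftAddHom_apply_single]
        show X.presheaf.map (homOfLE (le_top : h ⁻¹ᵁ V ≤ ⊤)).op (Coh.toGlobal p a) • (h.app V b • x) = _
        rw [smul_smul, mul_comm]
        rfl
      · show (0 : Γ(X, h ⁻¹ᵁ V)) • x ∈ L.range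
        rw [zero_smul]
        exact zero_mem _
      · intro a b _ _ ha hb
        show (a + b) • x ∈ L.range
        rw [add_smul]
        exact add_mem ha hb
      · intro a _ ha
        show (-a) • x ∈ L.range
        rw [neg_smul]
        exact neg_mem ha
    refine (Submodule.span_induction (p := fun n _ => ∀ c : Γ(X, h ⁻¹ᵁ V), c • n ∈ L.range) (fun x hx c => key c x hx)
      (fun c => by rw [smul_zero]; exact zero_mem _) (fun a b _ _ ha hb c => by rw [smul_add]; exact add_mem (ha c) (hb c))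
      (fun r a _ ha c => by rw [smul_smul]; exact ha _) hn 1 : (1 : Γ(X, h ⁻¹ᵁ V)) • n ∈ L.range) |> fun h1 => ?_
    rwa [one_smul] at h1
  obtain ⟨E, hE⟩ := exists_pushEquiv' h M d
  let A₀ := Γ(S₀, ⊤)
  haveI : IsNoetherianRing A₀ := QCohLib.isNoetherianRing_section (isAffineOpen_top S₀)
  let q : X₀ ⟶ Spec (CommRingCat.of A₀) := f₀ ≫ S₀.isoSpec.hom
  haveI : IsLocallyNoetherian X₀ := LocallyOfFiniteType.isLocallyNoetherian f₀
  haveI : IsNoetherian X₀ := { }
  let ψ₀ : A₀ →+* Coh.Γtop X₀ := Coh.toGlobal q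
  letI : Module A₀ (Coh.HH X₀ G d) := Module.compHom _ ψ₀
  haveI : Module.Finite A₀ (Coh.HH X₀ G d) := ProperFin.allFin_of_isCoh q G hG d
  obtain ⟨k, e₀, he₀⟩ := Module.Finite.exists_fin (R := A₀) (M := Coh.HH X₀ G d)
  let Λ : A → Coh.HH X₀ G d →+ Coh.HH X M d := fun a => E.symm.toAddMonoidHom.comp
    ((hmap (⊤ : X₀.Opens) ((QCohLib.toAbF X₀).map (m a)) d).comp (HHEquiv G d).toAddMonoidHom)
  let j₀ : Coh.HH X₀ G d →+ Coh.HH X M d := E.symm.toAddMonoidHom.comp
    ((hmap (⊤ : X₀.Opens) ((QCohLib.toAbF X₀).map (SubLib.subι G₁.1)) d).comp (HHEquiv G d).toAddMonoidHom)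
  have hEj : ∀ y, E (j₀ y) = hmap ⊤ ((QCohLib.toAbF X₀).map (SubLib.subι G₁.1)) d (HHEquiv G d y) :=
    fun y => E.apply_symm_apply _
  have hΛ : ∀ a y, Λ a y = Coh.toGlobal p a • j₀ y := fun a y => by
    apply E.injective
    rw [hE, hEj]
    exact (E.apply_symm_apply _).trans (hmap_comp_push_smul h M _ _ d _)
  have hj : ∀ (c : Coh.Γtop X₀) y, j₀ (c • y) = ProperFin.gTop h c • j₀ y := fun c y => by
    apply E.injective
    rw [hE, hEj, hEj]
    exact hmap_smul h M _ c d y
  have hc : ∀ c : A₀, ProperFin.gTop h (ψ₀ c) = Coh.toGlobal p ((Scheme.ΓSpecIso (CommRingCat.of A)).hom (gS.appTop c)) := by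
    intro c
    show h.appTop (Coh.toGlobal q c) = p.appTop ((Scheme.ΓSpecIso _).inv ((Scheme.ΓSpecIso _).hom (gS.appTop c)))
    rw [show (Scheme.ΓSpecIso (CommRingCat.of A)).inv ((Scheme.ΓSpecIso _).hom (gS.appTop c)) = gS.appTop c from
      congrArg (fun k => k (gS.appTop c)) (Scheme.ΓSpecIso (CommRingCat.of A)).hom_inv_id]
    have e1 : Coh.toGlobal q c = f₀.appTop c := by
      show q.appTop ((Scheme.ΓSpecIso _).inv c) = _
      simp only [q, Scheme.Hom.comp_appTop, CommRingCat.comp_apply]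
      refine congrArg f₀.appTop ?_
      show S₀.toSpecΓ.appTop ((Scheme.ΓSpecIso Γ(S₀, ⊤)).inv c) = c
      rw [Scheme.toSpecΓ_appTop]
      exact congrArg (fun k => k c) (Scheme.ΓSpecIso Γ(S₀, ⊤)).inv_hom_id
    rw [e1]
    exact congrArg (fun k => k c) (show f₀.appTop ≫ h.appTop = gS.appTop ≫ p.appTop by
      rw [← Scheme.Hom.comp_appTop, ← Scheme.Hom.comp_appTop, w])
  letI : Module A (Coh.HH X M d) := Module.compHom _ (Coh.toGlobal p)
  let T : Submodule A (Coh.HH X M d) := Submodule.span A (Set.range fun l => j₀ (e₀ l))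
  have hT : ∀ y, j₀ y ∈ T := fun y => by
    have hy : y ∈ Submodule.span A₀ (Set.range e₀) := by rw [he₀]; exact Submodule.mem_top
    induction hy using Submodule.span_induction with
    | mem z hz => obtain ⟨l, rfl⟩ := hz; exact Submodule.subset_span ⟨l, rfl⟩
    | zero => rw [map_zero]; exact zero_mem _
    | add a b _ _ ha hb => rw [map_add]; exact add_mem ha hb
    | smul r a _ ha =>
      show j₀ (ψ₀ r • a) ∈ T
      rw [hj, hc]
      exact T.smul_mem ((Scheme.ΓSpecIso (CommRingCat.of A)).hom (gS.appTop r)) ha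
  refine ⟨⟨Finset.univ.image fun l => j₀ (e₀ l), ?_⟩⟩
  rw [eq_top_iff, Finset.coe_image, Finset.coe_univ, Set.image_univ]
  intro x _
  obtain ⟨F, y, hxy⟩ := exists_sum_hmap U hU hcov d
    (fun K hK => by haveI := hK; exact subsingleton_HU_noetherian_qc f₀ d hdim K d le_rfl) G N m hgen (E x)
  have hx : x = ∑ a ∈ F, Λ a ((HHEquiv G d).symm (y a)) := by
    apply E.injective
    rw [map_sum, hxy]
    refine Finset.sum_congr rfl fun a _ => ?_
    show _ = E (E.symm (hmap ⊤ _ d ((HHEquiv G d) ((HHEquiv G d).symm (y a)))))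
    rw [E.apply_symm_apply, AddEquiv.apply_symm_apply]
  rw [hx]
  refine Submodule.sum_mem _ fun a _ => ?_
  rw [hΛ]
  exact T.smul_mem a (hT _)

end Groth.Agent.FibreVanishQC
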