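import Groth.Agent.SubLib.ExtendWO
import Groth.Agent.ProjBundleLib.FTSub
import Groth.Agent.CohBase.LerayOn
import Groth.Agent.CohBase.Affine
import Mathlib.AlgebraicGeometry.Morphisms.Affine

/-! A quasi-coherent module is the union of its quasi-coherent submodules of finite type; with Čech
complexes, vanishing of cohomology on the latter gives vanishing on the module. -/

set_option autoImplicit false
set_option backward.isDefEq.respectTransparency false
set_option linter.style.haveILetI false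

universe u

open CategoryTheory CategoryTheory.Limits AlgebraicGeometry Opposite TopologicalSpace
open Groth.Agent.CohBase

noncomputable section

namespace Groth.Agent.FibreVanishQC

variable {X : Scheme.{u}} (M : X.Modules)

/-- The submodules of finite type. -/
def FTSub : Type u := {N : SubLib.StalkSub M // SubLib.Good N ⊤}

instance : PartialOrder (FTSub M) := inferInstanceAs (PartialOrder {N : SubLib.StalkSub M // SubLib.Good N ⊤})

instance [Coh.IsQCoh M] : Nonempty (FTSub M) := ⟨⟨fun _ => ⊥, ProjBundleLib.good_bot ⊤⟩⟩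

instance [Coh.IsQCoh M] : IsDirected (FTSub M) (· ≤ ·) :=
  ⟨fun a b => ⟨⟨fun z => a.1 z ⊔ b.1 z, ProjBundleLib.good_sup a.2 b.2⟩, fun _ => le_sup_left, fun _ => le_sup_right⟩⟩

theorem isCoh_subMod [Coh.IsQCoh M] (N : FTSub M) : Coh.IsCoh (SubLib.subMod N.1) := by
  have hG : ∀ x : X, ∃ W : X.Opens, IsAffineOpen W ∧ x ∈ W ∧ SubLib.GenOn N.1 W := fun x => by
    obtain ⟨W, hW, hx, -, h⟩ := N.2 x trivial
    exact ⟨W, hW, hx, h⟩
  exact ⟨SubLib.isQCoh_subMod N.1 hG, SubLib.isFT_subMod N.1 hG⟩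

/-- Finitely many sections over affine opens lie in one submodule of finite type. -/
theorem exists_forall_mem [CompactSpace X] [QuasiSeparatedSpace X] [Coh.IsQCoh M] {κ : Type*} [Finite κ]
    (V : κ → X.Opens) (hV : ∀ k, IsAffineOpen (V k)) (s : ∀ k, Γ(M, V k)) :
    ∃ N : FTSub M, ∀ k, s k ∈ SubLib.sec N.1 (V k) := by
  have key : ∀ k, ∃ N : FTSub M, s k ∈ SubLib.sec N.1 (V k) := fun k => by
    obtain ⟨N₀, h₀, hs⟩ := SubLib.exists_good_section (hV k) (s k)
    obtain ⟨N, hN, hgood⟩ := SubLib.exists_good_qcqs (hV k).isCompact h₀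
    refine ⟨⟨N, hgood⟩, fun z hz => ?_⟩
    show _ ∈ N z
    rw [hN z hz]
    exact hs z hz
  choose N hN using key
  obtain ⟨N', hN'⟩ := Finite.exists_le N
  exact ⟨N', fun k z hz => hN' k z (hN k z hz)⟩

theorem isAffineOpen_iInf_fin [X.IsSeparated] : ∀ {n : ℕ} (W : Fin (n + 1) → X.Opens),
    (∀ a, IsAffineOpen (W a)) → IsAffineOpen (⨅ a, W a)
  | 0, W, h => by simpa using h 0
  | n + 1, W, h => by
    have e : (⨅ a, W a) = W 0 ⊓ ⨅ a : Fin (n + 1), W a.succ :=
      le_antisymm (le_inf (iInf_le _ _) (le_iInf fun a => iInf_le _ _))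
        (le_iInf (Fin.cases inf_le_left fun a => inf_le_right.trans (iInf_le _ a)))
    rw [e]
    exact (h 0).inf (isAffineOpen_iInf_fin _ fun a => h a.succ)

/-- On a quasi-compact separated scheme vanishing of cohomology on coherent submodules implies vanishing. -/
theorem subsingleton_HU_top [CompactSpace X] [X.IsSeparated] [Coh.IsQCoh M] (p : ℕ)
    (h : ∀ G : X.Modules, Coh.IsCoh G → Subsingleton (HU (⊤ : X.Opens) (Coh.toAb G) (p + 1))) :
    Subsingleton (HU (⊤ : X.Opens) (Coh.toAb M) (p + 1)) := by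
  classical
  let 𝒰 := X.affineCover.finiteSubcover
  let U : 𝒰.I₀ → X.Opens := fun a => (𝒰.f a).opensRange
  have hU : ∀ a, IsAffineOpen (U a) := fun a => isAffineOpen_opensRange (𝒰.f a)
  have hcov : (⊤ : X.Opens) ≤ iSup U := le_of_eq 𝒰.iSup_opensRange.symm
  have hint : ∀ (m : ℕ) (i : Fin (m + 1) → 𝒰.I₀), IsAffineOpen (inter U i) :=
    fun m i => isAffineOpen_iInf_fin _ fun a => hU (i a)
  refine subsingleton_HU_of_cover U (fun _ => le_top) hcov (acyclic_of_affine M U hint) p fun c hc => ?_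
  obtain ⟨N, hN⟩ := exists_forall_mem M (fun i : Fin (p + 2) → 𝒰.I₀ => inter U i) (hint _) c
  let G := SubLib.subMod N.1
  have hG := isCoh_subMod M N
  haveI := hG.1
  let φ : (Coh.toAb G).obj ⟶ (Coh.toAb M).obj := (SubLib.subι N.1).mapPresheaf
  have hinj : ∀ n, Function.Injective (ccMap U φ n) := fun n a b hab =>
    funext fun i => SubLib.subι_app_injective N.1 _ (congrFun hab i)
  let c₀ : CC U (Coh.toAb G).obj (p + 1) := fun i => (⟨c i, hN i⟩ : SubLib.sec N.1 (inter U i))
  have hc₀ : ccMap U φ (p + 1) c₀ = c := rfl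
  have hz : cdiff U (Coh.toAb G).obj (p + 1) c₀ = 0 :=
    hinj _ (by rw [← cdiff_ccMap, hc₀, hc, map_zero])
  obtain ⟨Φ, -, hΦ⟩ := hasComparison U hcov (acyclic_of_affine G U hint) (p + 1)
  haveI := h G hG
  obtain ⟨b, hb⟩ := (hΦ ⟨c₀, hz⟩).1 (Subsingleton.elim _ _)
  exact ⟨ccMap U φ p b, by rw [cdiff_ccMap, hb]; exact hc₀⟩

end Groth.Agent.FibreVanishQC
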