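import Groth.Agent.FibreVanishQC.ClosedFibre
import Mathlib

/-! Vanishing of the higher direct image of the structure sheaf near a fibre with vanishing top cohomology. -/

set_option autoImplicit false
set_option backward.isDefEq.respectTransparency false
set_option linter.style.haveILetI false
set_option maxHeartbeats 1000000

universe u

open CategoryTheory CategoryTheory.Limits AlgebraicGeometry Opposite TopologicalSpace
open Groth.Agent.CohBase

noncomputable section

namespace Groth.Agent.FibreVanishQC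

/-- A module without sections over small affine opens has zero stalks. -/
theorem subsingleton_stalk_of_small {Y : Scheme.{u}} (N : Y.Modules) (y : Y) {V : Y.Opens} (hy : y ∈ V)
    (h : ∀ U : Y.Opens, IsAffineOpen U → U ≤ V → Subsingleton Γ(N, U)) : Subsingleton (N.presheaf.stalk y) := by
  refine subsingleton_of_forall_eq 0 fun z => ?_
  obtain ⟨W, hW, m, rfl⟩ := TopCat.Presheaf.exists_germ_eq N.presheaf z
  obtain ⟨_, ⟨U, hU, rfl⟩, hyU, hle⟩ := Y.isBasis_affineOpens.exists_subset_of_mem_open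
    (show y ∈ W ⊓ V from ⟨hW, hy⟩) (W ⊓ V).2
  change Y.Opens at U
  haveI := h U hU fun z hz => (hle hz).2
  rw [← N.presheaf.germ_res_apply (homOfLE (fun z hz => (hle hz).1 : U ≤ W)) y hyU m,
    Subsingleton.elim (N.presheaf.map (homOfLE (fun z hz => (hle hz).1 : U ≤ W)).op m) 0, map_zero]

/-- The stalk of the top direct image of the structure sheaf at a point whose fibre has no cohomology. -/
theorem subsingleton_stalk_rpush {X Y : Scheme.{u}} (f : X ⟶ Y) [IsProper f] (d : ℕ) (y : Y)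
    (hd : topologicalKrullDim ↥(f.fiber y) ≤ d)
    (h : Subsingleton (Coh.HH (f.fiber y) (Coh.structureModule (f.fiber y)) d)) :
    Subsingleton (((Coh.Rpush f d).obj (Coh.structureModule X)).presheaf.stalk y) := by
  haveI : HasInjectiveResolutions X.Modules := inferInstance
  haveI : Coh.IsQCoh (Coh.structureModule X) := inferInstance
  let X₁ : Scheme.{u} := pullback f (Y.fromSpecStalk y)
  let f₁ : X₁ ⟶ Spec (CommRingCat.of (Y.presheaf.stalk y)) := pullback.snd f (Y.fromSpecStalk y)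
  letI : X₁.Over (Spec (CommRingCat.of (Y.presheaf.stalk y))) := ⟨f₁⟩
  have hsq : IsPullback (pullback.fst f (Y.fromSpecStalk y)) f₁ f (Y.fromSpecStalk y) :=
    IsPullback.of_hasPullback f (Y.fromSpecStalk y)
  haveI : IsProper f₁ := inferInstanceAs (IsProper (pullback.snd f (Y.fromSpecStalk y)))
  have hd₁ : ∀ s, topologicalKrullDim ↥(f₁.fiber s) ≤ d := fun s => by
    rw [Groth.Agent.S9777.result f _ f₁ _ hsq s]
    have hs := Set.mem_range_self (f := Y.fromSpecStalk y) s
    rw [Scheme.range_fromSpecStalk] at hs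
    exact hs.mem_open (Groth.Agent.S0403.result f d) hd
  have hsq₂ : IsPullback (pullback.fst f (Y.fromSpecResidueField y)) (f.fiberToSpecResidueField y) f
      (Spec.map (Y.residue y) ≫ Y.fromSpecStalk y) := IsPullback.of_hasPullback f (Y.fromSpecResidueField y)
  let t : f.fiber y ⟶ X₁ := pullback.lift (pullback.fst f (Y.fromSpecResidueField y))
    (f.fiberToSpecResidueField y ≫ Spec.map (Y.residue y)) (by rw [hsq₂.w, Category.assoc])
  have ht : IsPullback t (f.fiberToSpecResidueField y) f₁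
      (Spec.map (CommRingCat.ofHom (IsLocalRing.residue (Y.presheaf.stalk y)))) :=
    IsPullback.of_right (by rw [show t ≫ pullback.fst f (Y.fromSpecStalk y) = _ from pullback.lift_fst _ _ _]; exact hsq₂)
      (pullback.lift_snd _ _ _) hsq
  haveI := subsingleton_HH_of_closed_fibre (R := Y.presheaf.stalk y) f₁ d hd₁ ht h
  obtain ⟨e⟩ := RpushLib.nonempty_stalk_equiv f (Coh.structureModule X) y d X₁ (pullback.fst f (Y.fromSpecStalk y)) hsq
  haveI : Subsingleton (Coh.HH X₁ ((Scheme.Modules.pullback (pullback.fst f (Y.fromSpecStalk y))).obj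
      (Coh.structureModule X)) d) :=
    CurveLib.subsingleton_HH_iso (AmpleLib.pullO _).symm d ‹_›
  exact e.toEquiv.subsingleton

/-- A neighbourhood over which the top cohomology of the structure sheaf of a proper scheme vanishes. -/
theorem exists_nhd_vanish {X Y : Scheme.{u}} (f : X ⟶ Y) [IsProper f] (d : ℕ) (y : Y)
    (hd : topologicalKrullDim ↥(f.fiber y) ≤ d)
    (h : Subsingleton (Coh.HH (f.fiber y) (Coh.structureModule (f.fiber y)) d)) :
    ∃ V : Y.Opens, y ∈ V ∧ (∀ z ∈ V, topologicalKrullDim ↥(f.fiber z) ≤ d) ∧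
      ∀ U : Y.Opens, IsAffineOpen U → U ≤ V →
        Subsingleton (Coh.HH (f ⁻¹ᵁ U).toScheme (Coh.structureModule (f ⁻¹ᵁ U).toScheme) d) := by
  classical
  haveI : HasInjectiveResolutions X.Modules := inferInstance
  haveI : Coh.IsQCoh (Coh.structureModule X) := inferInstance
  obtain ⟨_, ⟨W, hW, rfl⟩, hyW, hle⟩ := Y.isBasis_affineOpens.exists_subset_of_mem_open
    (u := {z | topologicalKrullDim ↥(f.fiber z) ≤ d}) hd (Groth.Agent.S0403.result f d)
  change Y.Opens at W
  let C := (Coh.Rpush f d).obj (Coh.structureModule X)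
  haveI : Coh.IsQCoh C := RpushLib.isQCoh_rpush f d
  haveI : IsAffine W.toScheme := hW
  let p : (f ⁻¹ᵁ W).toScheme ⟶ Spec Γ(Y, W) := (f ∣_ W) ≫ hW.isoSpec.hom
  haveI : IsProper (f ∣_ W) := MorphismProperty.of_isPullback (isPullback_morphismRestrict f W).flip ‹_›
  haveI : IsProper p := inferInstanceAs (IsProper ((f ∣_ W) ≫ hW.isoSpec.hom))
  have hp : ∀ s, topologicalKrullDim ↥(p.fiber s) ≤ d := fun s => by
    have hsq₁ : IsPullback (f ⁻¹ᵁ W).ι p f hW.fromSpec := by
      refine (isPullback_morphismRestrict f W).flip.of_iso (Iso.refl _) (Iso.refl _) hW.isoSpec (Iso.refl _)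
        (by simp) (by simp [p]) (by simp) (by simp [IsAffineOpen.isoSpec_hom_fromSpec])
    rw [Groth.Agent.S9777.result f _ p _ hsq₁ s]
    have hs := Set.mem_range_self (f := hW.fromSpec) s
    rw [IsAffineOpen.range_fromSpec] at hs
    exact hle hs
  haveI : Coh.IsQCoh ((Coh.structureModule X).restrict (f ⁻¹ᵁ W).ι) :=
    (SheafOfModules.isQuasicoherent (f ⁻¹ᵁ W).toScheme.ringCatSheaf).prop_of_iso
      ((Scheme.Modules.restrictFunctorIsoPullback (f ⁻¹ᵁ W).ι).app (Coh.structureModule X)).symm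
      (PullbackMod.isQCoh_pullback (f ⁻¹ᵁ W).ι (Coh.structureModule X))
  have hcoh : Coh.IsCoh ((Coh.structureModule X).restrict (f ⁻¹ᵁ W).ι) :=
    Groth.Agent.ProjCoh.isCoh_of_iso (Scheme.Modules.restrictUnitIso _).symm (DevLib.isCoh_structureModule _)
  haveI hfin := finite_HH_top p d hp _ hcoh
  obtain ⟨e₀, he₀⟩ := RpushLib.exists_sections_equiv (M := Coh.structureModule X) f d hW
  letI := Module.compHom (Coh.HH (f ⁻¹ᵁ W).toScheme ((Coh.structureModule X).restrict (f ⁻¹ᵁ W).ι) d)
    (Coh.toGlobal (A := Γ(Y, W)) p)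
  let l : Γ(C, W) ≃ₗ[Γ(Y, W)] Coh.HH (f ⁻¹ᵁ W).toScheme ((Coh.structureModule X).restrict (f ⁻¹ᵁ W).ι) d :=
    { e₀ with
      map_smul' := fun r s => by
        refine (he₀ r s).trans ?_
        rw [← RpushLib.toGlobal_eq f hW]
        rfl }
  haveI : Module.Finite Γ(Y, W) Γ(C, W) := Module.Finite.equiv l.symm
  obtain ⟨G, hG⟩ := Module.Finite.fg_top (R := Γ(Y, W)) (M := Γ(C, W))
  haveI hst := subsingleton_stalk_rpush f d y hd h
  have key : ∀ g : Γ(C, W), ∃ N : Y.Opens, y ∈ N ∧ ∀ z ∈ N, ∀ hz : z ∈ W, C.presheaf.germ W z hz g = 0 := by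
    intro g
    obtain ⟨N, hyN, i₁, i₂, hN⟩ := TopCat.Presheaf.germ_eq C.presheaf y hyW hyW g 0
      (Subsingleton.elim (α := (C.presheaf.stalk y : Type u)) _ _)
    refine ⟨N, hyN, fun z hz hzW => ?_⟩
    rw [← C.presheaf.germ_res_apply i₁ z hz g, hN, map_zero, map_zero]
  choose N hyN hN using key
  let V : Y.Opens := ⟨(W : Set Y) ∩ ⋂ g ∈ G, (N g : Set Y),
    W.2.inter (isOpen_biInter_finset fun g _ => (N g).2)⟩
  have hV : y ∈ V := ⟨hyW, Set.mem_iInter₂.2 fun g _ => hyN g⟩
  refine ⟨V, hV, fun z hz => hle hz.1, fun U hU hUV => ?_⟩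
  haveI : Subsingleton Γ(C, U) := subsingleton_sections C U fun z hz => by
    have hzW : z ∈ W := (hUV hz).1
    letI := Module.compHom (C.presheaf.stalk z) (Y.presheaf.germ W z hzW).hom
    haveI := FlatLocus.isLocalizedModule_germL C hW z hzW
    have h0 : FlatLocus.germL C W z hzW = 0 :=
      LinearMap.ext_on hG fun g hg => by
        refine Eq.trans ?_ (LinearMap.zero_apply g).symm
        exact hN g z (Set.mem_iInter₂.1 (hUV hz).2 g hg) hzW
    haveI : Subsingleton (C.presheaf.stalk z) := by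
      refine subsingleton_of_forall_eq 0 fun c => ?_
      obtain ⟨⟨m, s⟩, hms⟩ := IsLocalizedModule.surj (hW.primeIdealOf ⟨z, hzW⟩).asIdeal.primeCompl
        (FlatLocus.germL C W z hzW) c
      refine IsLocalizedModule.smul_injective (FlatLocus.germL C W z hzW) s ?_
      show s • c = s • 0
      rw [hms, h0, LinearMap.zero_apply, smul_zero]
    exact AddCommGrpCat.isZero_of_subsingleton _
  obtain ⟨e, -⟩ := RpushLib.exists_sections_equiv (M := Coh.structureModule X) f d hU
  exact CurveLib.subsingleton_HH_iso (Scheme.Modules.restrictUnitIso _) d e.symm.toEquiv.subsingleton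

/-- Vanishing of the top cohomology over affine opens is inherited by base changes. -/
theorem subsingleton_HH_preimage_baseChange {X Y X' Y' : Scheme.{u}} (f : X ⟶ Y) [IsProper f] (d : ℕ)
    {g : Y' ⟶ Y} {f' : X' ⟶ Y'} {g' : X' ⟶ X} (sq : IsPullback g' f' f g) {V : Y.Opens}
    (hgV : ∀ z, g z ∈ V) (hd : ∀ z ∈ V, topologicalKrullDim ↥(f.fiber z) ≤ d)
    (h : ∀ U : Y.Opens, IsAffineOpen U → U ≤ V →
      Subsingleton (Coh.HH (f ⁻¹ᵁ U).toScheme (Coh.structureModule (f ⁻¹ᵁ U).toScheme) d))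
    {U' : Y'.Opens} (hU' : IsAffineOpen U') :
    Subsingleton (Coh.HH (f' ⁻¹ᵁ U').toScheme (Coh.structureModule (f' ⁻¹ᵁ U').toScheme) d) := by
  haveI : IsProper f' := MorphismProperty.of_isPullback sq ‹_›
  haveI : HasInjectiveResolutions X'.Modules := inferInstance
  haveI : Coh.IsQCoh (Coh.structureModule X') := inferInstance
  let C := (Coh.Rpush f' d).obj (Coh.structureModule X')
  have key : ∀ (T : Y.Opens) (W : Y'.Opens), IsAffineOpen T → T ≤ V → IsAffineOpen W → W ≤ g ⁻¹ᵁ T →
      Subsingleton Γ(C, W) := by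
    intro T W hT hTV hW hle
    haveI : IsAffine T.toScheme := hT
    haveI : IsAffine W.toScheme := hW
    let gW : W.toScheme ⟶ T.toScheme := g.resLE T W hle
    have e : f' ⁻¹ᵁ W ≤ g' ⁻¹ᵁ (f ⁻¹ᵁ T) := fun z hz => by
      show f (g' z) ∈ T
      rw [← Scheme.Hom.comp_apply, sq.w, Scheme.Hom.comp_apply]
      exact hle hz
    let k : (f' ⁻¹ᵁ W).toScheme ⟶ (f ⁻¹ᵁ T).toScheme := g'.resLE (f ⁻¹ᵁ T) (f' ⁻¹ᵁ W) e
    have h1 : IsPullback ((f' ⁻¹ᵁ W).ι ≫ g') (f' ∣_ W) f (W.ι ≫ g) :=
      ((isPullback_morphismRestrict f' W).flip.paste_horiz sq)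
    have h2 : IsPullback k (f' ∣_ W) (f ∣_ T) gW :=
      IsPullback.of_right (by rw [Scheme.Hom.resLE_comp_ι, Scheme.Hom.resLE_comp_ι]; exact h1)
        (by
          rw [← cancel_mono T.ι, Category.assoc, Category.assoc, morphismRestrict_ι, Scheme.Hom.resLE_comp_ι_assoc,
            Scheme.Hom.resLE_comp_ι, morphismRestrict_ι_assoc, sq.w])
        (isPullback_morphismRestrict f T).flip
    haveI : IsProper (f ∣_ T) := MorphismProperty.of_isPullback (isPullback_morphismRestrict f T).flip ‹_›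
    have hdT : ∀ s, topologicalKrullDim ↥((f ∣_ T).fiber s) ≤ d := fun s =>
      (Groth.Agent.S9777.result f T.ι (f ∣_ T) (f ⁻¹ᵁ T).ι (isPullback_morphismRestrict f T).flip s).trans_le
        (hd _ (hTV s.2))
    have h3 := subsingleton_HH_baseChange h2 d hdT (h T hT hTV)
    haveI := CurveLib.subsingleton_HH_iso (Scheme.Modules.restrictUnitIso (f' ⁻¹ᵁ W).ι).symm d h3
    obtain ⟨E, -⟩ := RpushLib.exists_sections_equiv (M := Coh.structureModule X') f' d hW
    exact E.toEquiv.subsingleton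
  haveI : Subsingleton Γ(C, U') := subsingleton_sections C U' fun z hz => by
    obtain ⟨_, ⟨T, hT, rfl⟩, hzT, hle⟩ := Y.isBasis_affineOpens.exists_subset_of_mem_open (hgV z) V.2
    change Y.Opens at T
    haveI := subsingleton_stalk_of_small C z (V := g ⁻¹ᵁ T) hzT fun W hW hWT => key T W hT hle hW hWT
    exact AddCommGrpCat.isZero_of_subsingleton _
  obtain ⟨E, -⟩ := RpushLib.exists_sections_equiv (M := Coh.structureModule X') f' d hU'
  exact CurveLib.subsingleton_HH_iso (Scheme.Modules.restrictUnitIso _) d E.symm.toEquiv.subsingleton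

end Groth.Agent.FibreVanishQC
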